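import Mathlib.RingTheory.IsTensorProduct
import Mathlib.RingTheory.RingHom.Etale
import Groth.Agent.Flat2B.EtaleNhd

/-!
# Base change of modules and rings along ring homomorphisms (no algebra instances)

`IsBC φ m`: the `φ`-semilinear map `m` is a base change along the ring homomorphism `φ`.
-/

set_option autoImplicit false
universe u

open TensorProduct

namespace K116.BC

/-- the linear map underlying a semilinear map, for the algebra structure defined by the ring homomorphism -/
def toLin {R S : Type u} [CommRing R] [CommRing S] (φ : R →+* S) {M M' : Type u} [AddCommGroup M]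
    [Module R M] [AddCommGroup M'] [Module S M'] (m : M →ₛₗ[φ] M') :
    letI := Module.compHom M' φ
    M →ₗ[R] M' :=
  letI := Module.compHom M' φ
  { toFun := m, map_add' := m.map_add, map_smul' := fun r x => m.map_smulₛₗ r x }

/-- The semilinear map `m` is a base change along `φ`. -/
def IsBC {R S : Type u} [CommRing R] [CommRing S] (φ : R →+* S) {M M' : Type u} [AddCommGroup M]
    [Module R M] [AddCommGroup M'] [Module S M'] (m : M →ₛₗ[φ] M') : Prop :=
  letI := φ.toAlgebra
  letI := Module.compHom M' φ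
  letI : IsScalarTower R S M' := .of_algebraMap_smul fun _ _ => rfl
  IsBaseChange S (toLin φ m)

section

variable {R S : Type u} [CommRing R] [CommRing S]

/-- A linear map as a semilinear map. -/
def ofLin [Algebra R S] {M M' : Type u} [AddCommGroup M] [Module R M] [AddCommGroup M'] [Module S M']
    [Module R M'] [IsScalarTower R S M'] (g : M →ₗ[R] M') : M →ₛₗ[algebraMap R S] M' where
  toFun := g
  map_add' := g.map_add
  map_smul' r x := by rw [g.map_smul, algebraMap_smul]

theorem isBaseChange_congr {M M' : Type u} [AddCommGroup M] [Module R M] [AddCommGroup M'] [Module S M']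
    (i1 j1 : Algebra R S) (i2 j2 : Module R M')
    (i3 : @IsScalarTower R S M' i1.toSMul _ i2.toSMul) (j3 : @IsScalarTower R S M' j1.toSMul _ j2.toSMul)
    (h1 : j1 = i1) (h2 : j2 = i2) (g : @LinearMap R R _ _ (RingHom.id R) M M' _ _ _ i2)
    (g' : @LinearMap R R _ _ (RingHom.id R) M M' _ _ _ j2) (h : (g' : M → M') = g) :
    (@IsBaseChange R M M' S _ _ _ _ i1 _ i2 _ i3 g ↔ @IsBaseChange R M M' S _ _ _ _ j1 _ j2 _ j3 g') := by
  subst h1
  subst h2
  have : g' = g := by
    apply LinearMap.ext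
    exact congrFun h
  rw [this]

theorem isBC_ofLin [i1 : Algebra R S] {M M' : Type u} [AddCommGroup M] [Module R M] [AddCommGroup M']
    [Module S M'] [i2 : Module R M'] [i3 : IsScalarTower R S M'] (g : M →ₗ[R] M') :
    IsBC (algebraMap R S) (ofLin g) ↔ IsBaseChange S g := by
  have h1 : (algebraMap R S).toAlgebra = i1 := Algebra.algebra_ext _ _ fun _ => rfl
  have h2 : Module.compHom M' (algebraMap R S) = i2 := by
    refine Module.ext' _ _ fun r x => ?_
    exact algebraMap_smul S r x
  unfold IsBC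
  exact (isBaseChange_congr i1 _ i2 _ i3 _ h1 h2 g (toLin (algebraMap R S) (ofLin g)) rfl).symm

end

section comp

variable {R S T : Type u} [CommRing R] [CommRing S] [CommRing T] {φ : R →+* S} {ψ : S →+* T}
  {M N L : Type u} [AddCommGroup M] [Module R M] [AddCommGroup N] [Module S N] [AddCommGroup L] [Module T L]

/-- composition of semilinear maps -/
def compS (n : N →ₛₗ[ψ] L) (m : M →ₛₗ[φ] N) : M →ₛₗ[ψ.comp φ] L where
  toFun x := n (m x)
  map_add' x y := by rw [map_add, map_add]
  map_smul' r x := by rw [m.map_smulₛₗ, n.map_smulₛₗ]; rfl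

theorem IsBC.comp {m : M →ₛₗ[φ] N} {n : N →ₛₗ[ψ] L} (hm : IsBC φ m) (hn : IsBC ψ n) :
    IsBC (ψ.comp φ) (compS n m) := by
  let _ := φ.toAlgebra
  let _ := ψ.toAlgebra
  let _ := (ψ.comp φ).toAlgebra
  let _ := Module.compHom N φ
  let _ := Module.compHom L ψ
  let _ := Module.compHom L (ψ.comp φ)
  have _ : IsScalarTower R S N := .of_algebraMap_smul fun _ _ => rfl
  have _ : IsScalarTower S T L := .of_algebraMap_smul fun _ _ => rfl
  have _ : IsScalarTower R T L := .of_algebraMap_smul fun _ _ => rfl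
  have _ : IsScalarTower R S T := .of_algebraMap_eq fun _ => rfl
  have _ : IsScalarTower R S L := .of_algebraMap_smul fun _ _ => rfl
  exact IsBaseChange.comp (f := toLin φ m) hm (g := toLin ψ n) hn

theorem IsBC.of_comp {m : M →ₛₗ[φ] N} {n : N →ₛₗ[ψ] L} (hm : IsBC φ m) (hn : IsBC (ψ.comp φ) (compS n m)) :
    IsBC ψ n := by
  let _ := φ.toAlgebra
  let _ := ψ.toAlgebra
  let _ := (ψ.comp φ).toAlgebra
  let _ := Module.compHom N φ
  let _ := Module.compHom L ψ
  let _ := Module.compHom L (ψ.comp φ)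
  have _ : IsScalarTower R S N := .of_algebraMap_smul fun _ _ => rfl
  have _ : IsScalarTower S T L := .of_algebraMap_smul fun _ _ => rfl
  have _ : IsScalarTower R T L := .of_algebraMap_smul fun _ _ => rfl
  have _ : IsScalarTower R S T := .of_algebraMap_eq fun _ => rfl
  have _ : IsScalarTower R S L := .of_algebraMap_smul fun _ _ => rfl
  exact IsBaseChange.of_comp (f := toLin φ m) hm (h := toLin ψ n) hn

theorem IsBC.exists_lift {m : M →ₛₗ[φ] N} (hm : IsBC φ m) (χ : M →ₛₗ[ψ.comp φ] L) :
    ∃ n : N →ₛₗ[ψ] L, ∀ x, n (m x) = χ x := by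
  let _ := φ.toAlgebra
  let _ := ψ.toAlgebra
  let _ := (ψ.comp φ).toAlgebra
  let _ := Module.compHom N φ
  let _ := Module.compHom L ψ
  let _ := Module.compHom L (ψ.comp φ)
  have _ : IsScalarTower R S N := .of_algebraMap_smul fun _ _ => rfl
  have _ : IsScalarTower S T L := .of_algebraMap_smul fun _ _ => rfl
  have _ : IsScalarTower R T L := .of_algebraMap_smul fun _ _ => rfl
  have _ : IsScalarTower R S T := .of_algebraMap_eq fun _ => rfl
  have _ : IsScalarTower R S L := .of_algebraMap_smul fun _ _ => rfl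
  have hm' : IsBaseChange S (toLin φ m) := hm
  let g : M →ₗ[R] L := toLin (ψ.comp φ) χ
  let n : N →ₗ[S] L := hm'.lift g
  exact ⟨{ toFun := n, map_add' := n.map_add, map_smul' := fun s x => n.map_smul s x }, fun x => hm'.lift_eq g x⟩

theorem exists_isBC (φ : R →+* S) (M : Type u) [AddCommGroup M] [Module R M] :
    ∃ (N : Type u) (_ : AddCommGroup N) (_ : Module S N) (m : M →ₛₗ[φ] N), IsBC φ m := by
  let _ := φ.toAlgebra
  refine ⟨S ⊗[R] M, inferInstance, inferInstance,
    { toFun := fun x => 1 ⊗ₜ x, map_add' := fun x y => tmul_add _ _ _, map_smul' := fun r x => ?_ }, ?_⟩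
  · rw [← TensorProduct.smul_tmul, TensorProduct.smul_tmul', Algebra.smul_def, smul_eq_mul]
    rfl
  · refine (isBC_ofLin (R := R) (S := S) (TensorProduct.mk R S M 1)).mpr (TensorProduct.isBaseChange R M S)

end comp

section tens

attribute [local instance] Algebra.TensorProduct.rightAlgebra

/-- Tensor product of two ring homomorphisms. -/
theorem exists_tens {R S T : Type u} [CommRing R] [CommRing S] [CommRing T] (φ : R →+* S) (ψ : R →+* T) :
    ∃ (P : Type u) (_ : CommRing P) (a : S →+* P) (b : T →+* P), a.comp φ = b.comp ψ ∧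
      (ψ.Etale → a.Etale) ∧ (φ.Etale → b.Etale) ∧
      (∀ (q : Ideal S) (r : Ideal T) [q.IsPrime] [r.IsPrime], q.comap φ = r.comap ψ →
        ∃ Q : Ideal P, Q.IsPrime ∧ Q.comap a = q ∧ Q.comap b = r) := by
  let _ := φ.toAlgebra
  let _ := ψ.toAlgebra
  have h0 : Algebra.IsPushout R S T (S ⊗[R] T) := inferInstance
  refine ⟨S ⊗[R] T, inferInstance, algebraMap S (S ⊗[R] T), algebraMap T (S ⊗[R] T), ?_, ?_, ?_, ?_⟩
  · have h1 := IsScalarTower.algebraMap_eq R S (S ⊗[R] T)
    have h2 := IsScalarTower.algebraMap_eq R T (S ⊗[R] T)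
    exact h1.symm.trans h2
  · intro h
    rw [RingHom.etale_algebraMap]
    have : Algebra.Etale R T := h
    infer_instance
  · intro h
    rw [RingHom.etale_algebraMap]
    have : Algebra.Etale R S := h
    have h1 : Algebra.Etale T (T ⊗[R] S) := inferInstance
    have h2 : Algebra.IsPushout R T S (S ⊗[R] T) := h0.symm
    exact Algebra.Etale.of_equiv (Algebra.IsPushout.equiv R T S (S ⊗[R] T))
  · intro q r _ _ h
    have h1 : q.LiesOver (q.under R) := ⟨rfl⟩
    have h2 : r.LiesOver (q.under R) := ⟨h⟩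
    obtain ⟨Q, hQ, h3, h4⟩ := Groth.Agent.Flat2B.EtaleNhd.exists_prime_of_isPushout (R := R) (R' := T) (S := S)
      (S' := S ⊗[R] T) (q.under R) q r
    exact ⟨Q, hQ, h3.over.symm, h4.over.symm⟩

end tens

/-- transport of semilinear maps along an equality of ring homomorphisms -/
def castS {R S : Type u} [CommRing R] [CommRing S] {φ φ' : R →+* S} (h : φ = φ') {M N : Type u} [AddCommGroup M]
    [Module R M] [AddCommGroup N] [Module S N] (m : M →ₛₗ[φ] N) : M →ₛₗ[φ'] N where
  toFun := m
  map_add' := m.map_add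
  map_smul' r x := (m.map_smulₛₗ r x).trans (congrArg (fun s => s • m x) (congrArg (fun f : R →+* S => f r) h))

theorem isBC_castS {R S : Type u} [CommRing R] [CommRing S] {φ φ' : R →+* S} (h : φ = φ') {M N : Type u}
    [AddCommGroup M] [Module R M] [AddCommGroup N] [Module S N] {m : M →ₛₗ[φ] N} (hm : IsBC φ m) :
    IsBC φ' (castS h m) := by
  subst h
  exact hm

theorem IsBC.congr {R S : Type u} [CommRing R] [CommRing S] {φ φ' : R →+* S} (h : φ = φ') {M N : Type u}
    [AddCommGroup M] [Module R M] [AddCommGroup N] [Module S N] {m : M →ₛₗ[φ] N} {m' : M →ₛₗ[φ'] N}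
    (hm : IsBC φ m) (hmm : ∀ x, m' x = m x) : IsBC φ' m' := by
  subst h
  have : m' = m := LinearMap.ext hmm
  rw [this]
  exact hm

/-- Tensor product of two base changes. -/
theorem exists_tens_mod {R S T : Type u} [CommRing R] [CommRing S] [CommRing T] (φ : R →+* S) (ψ : R →+* T)
    {M N L : Type u} [AddCommGroup M] [Module R M] [AddCommGroup N] [Module S N] [AddCommGroup L] [Module T L]
    (m : M →ₛₗ[φ] N) (hm : IsBC φ m) (l : M →ₛₗ[ψ] L) (hl : IsBC ψ l) :
    ∃ (P : Type u) (_ : CommRing P) (a : S →+* P) (b : T →+* P), a.comp φ = b.comp ψ ∧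
      (ψ.Etale → a.Etale) ∧ (φ.Etale → b.Etale) ∧
      (∀ (q : Ideal S) (r : Ideal T) [q.IsPrime] [r.IsPrime], q.comap φ = r.comap ψ →
        ∃ Q : Ideal P, Q.IsPrime ∧ Q.comap a = q ∧ Q.comap b = r) ∧
      ∃ (E : Type u) (_ : AddCommGroup E) (_ : Module P E) (n' : N →ₛₗ[a] E) (l' : L →ₛₗ[b] E),
        IsBC a n' ∧ IsBC b l' ∧ ∀ x, n' (m x) = l' (l x) := by
  obtain ⟨P, _, a, b, h1, h2, h3, h4⟩ := exists_tens φ ψ
  obtain ⟨E, _, _, n', hn'⟩ := exists_isBC a N
  have h5 : IsBC (b.comp ψ) (castS h1 (compS n' m)) := isBC_castS h1 (hm.comp hn')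
  obtain ⟨l', hl'⟩ := hl.exists_lift (castS h1 (compS n' m))
  refine ⟨P, inferInstance, a, b, h1, h2, h3, h4, E, inferInstance, inferInstance, n', l', hn', ?_, ?_⟩
  · refine hl.of_comp (h5.congr rfl fun x => ?_)
    exact hl' x
  · intro x
    exact (hl' x).symm

end K116.BC
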