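import Groth.Agent.FlatMor.K256.FlatStage
import Groth.Agent.FlatMor.K256.SrcPull
import Groth.Agent.Flat2B.FlatMain
import Groth.Agent.Models2.FlatIso

/-!
# The predicate "`F_T` is flat over `T`"

* `Q f F T t` : `F_T` is flat over `T`; `q_iff` : computed by any pullback square;
* `etSheafPred_Q` : stable under base change and étale local;
* `q_iff_flatP` : for affine `S`, `T` and a flat surjective affine chart `U ⟶ X`, it is `FlatP 0`.
-/

set_option autoImplicit false
universe u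

open CategoryTheory CategoryTheory.Limits AlgebraicGeometry TensorProduct
open Groth.Agent Groth.Agent.Flat2B Groth.Agent.Flat2B.RepPred Groth.Agent.Flat2B.AlgPred
open Groth.Agent.Flat2B.FlatFun

namespace K116.FlatQ

theorem flatP_zero_iff {A B N A' : Type u} [CommRing A] [CommRing B] [Algebra A B] [AddCommGroup N] [Module B N]
    [Module A N] [IsScalarTower A B N] [CommRing A'] [Algebra A A'] :
    FlatP 0 A B N A' ↔ Module.Flat A' (A' ⊗[A] N) := by
  obtain ⟨B', N', _, _, _, _, _, _, _, _, _, _, _, _, _, f, hf⟩ := PushModel.exists_models (R := A) (S := B) (A := A') N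
  rw [flatP_iff f hf]
  have h1 : FlatCA.FlatInDimGE 0 A' B' N' ↔ Module.Flat A' N' := by
    rw [Flat2C.FlatSec.flat_iff_flatAt (S := B')]
    constructor
    · intro h q hq
      by_contra hc
      have := h (q.under A') q hc
      simp at this
    · intro h t Q _ _ _ hc
      exact absurd (h Q) hc
  rw [h1]
  let _ : Module A N' := Module.compHom N' (algebraMap A B')
  have _ : IsScalarTower A B' N' := .of_algebraMap_smul fun _ _ => rfl
  have _ : IsScalarTower A B N' := .of_algebraMap_smul fun r x => by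
    rw [← algebraMap_smul B' (algebraMap A B r) x, ← IsScalarTower.algebraMap_apply]
    rfl
  have _ : IsScalarTower A A' N' := .of_algebraMap_smul fun r x => by
    rw [← algebraMap_smul B' (algebraMap A A' r) x, ← IsScalarTower.algebraMap_apply]
    rfl
  have _ : Algebra.IsPushout A A' B B' := .symm inferInstance
  have hb : IsBaseChange A' (f.restrictScalars A) := FlatA.FlatDescent.isBaseChange_restrictScalars f hf
  exact ⟨fun _ => Module.Flat.of_linearEquiv hb.equiv, fun _ => Module.Flat.of_linearEquiv hb.equiv.symm⟩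

/-- `F_T` is flat over `T`. -/
def Q {X S : Scheme.{u}} (f : X ⟶ S) (F : X.Modules) (T : Scheme.{u}) (t : T ⟶ S) : Prop :=
  FlatMod.IsFlatOver (pullback.snd f t) ((Scheme.Modules.pullback (pullback.fst f t)).obj F)

section

variable {X S : Scheme.{u}} {f : X ⟶ S} {F : X.Modules}

/-- pullback along a composition -/
noncomputable def pullIso {P P' : Scheme.{u}} (k : P' ⟶ P) (p : P ⟶ X) (p' : P' ⟶ X) (h : k ≫ p = p')
    (F : X.Modules) : (Scheme.Modules.pullback k).obj ((Scheme.Modules.pullback p).obj F) ≅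
      (Scheme.Modules.pullback p').obj F :=
  (Scheme.Modules.pullbackComp k p).app F ≪≫ (Scheme.Modules.pullbackCongr h).app F

theorem isFlatOverAt_comp {T T' P P' : Scheme.{u}} {p : P ⟶ X} {q : P ⟶ T} {g : T' ⟶ T} {k : P' ⟶ P} {q' : P' ⟶ T'}
    (H : IsPullback k q' q g) (p' : P' ⟶ X) (hp : k ≫ p = p') (z : P')
    (h : FlatMod.IsFlatOverAt q ((Scheme.Modules.pullback p).obj F) (k.base z)) :
    FlatMod.IsFlatOverAt q' ((Scheme.Modules.pullback p').obj F) z :=
  Models2.FlatIso.isFlatOverAt_of_iso _ (pullIso k p p' hp F) z (Fdesc.FlatBC.isFlatOverAt_pullback H _ z h)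

theorem isFlatOverAt_of_comp {T T' P P' : Scheme.{u}} {p : P ⟶ X} {q : P ⟶ T} {g : T' ⟶ T} [Flat g] {k : P' ⟶ P}
    {q' : P' ⟶ T'} (H : IsPullback k q' q g) (p' : P' ⟶ X) (hp : k ≫ p = p') (z : P')
    (h : FlatMod.IsFlatOverAt q' ((Scheme.Modules.pullback p').obj F) z) :
    FlatMod.IsFlatOverAt q ((Scheme.Modules.pullback p).obj F) (k.base z) :=
  Fdesc.FlatBC.isFlatOverAt_of_pullback H _ z (Models2.FlatIso.isFlatOverAt_of_iso _ (pullIso k p p' hp F).symm z h)

theorem q_iff {T P : Scheme.{u}} {t : T ⟶ S} {p : P ⟶ X} {q : P ⟶ T} (H : IsPullback p q f t) :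
    Q f F T t ↔ FlatMod.IsFlatOver q ((Scheme.Modules.pullback p).obj F) := by
  have h1 : IsPullback H.isoPullback.hom q (pullback.snd f t) (𝟙 T) :=
    IsPullback.of_horiz_isIso ⟨by simp⟩
  have h2 : IsPullback H.isoPullback.inv (pullback.snd f t) q (𝟙 T) :=
    IsPullback.of_horiz_isIso ⟨by simp⟩
  constructor
  · intro h z
    exact isFlatOverAt_comp h1 p (by simp) z (h _)
  · intro h z
    exact isFlatOverAt_comp h2 (pullback.fst f t) (by simp) z (h _)

theorem q_map {T T' : Scheme.{u}} (g : T' ⟶ T) (t : T ⟶ S) (h : Q f F T t) : Q f F T' (g ≫ t) := by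
  have H1 : IsPullback (pullback.fst (pullback.snd f t) g) (pullback.snd (pullback.snd f t) g) (pullback.snd f t) g :=
    IsPullback.of_hasPullback _ _
  rw [q_iff (H1.paste_horiz (IsPullback.of_hasPullback f t))]
  intro z
  exact isFlatOverAt_comp H1 _ rfl z (h _)

theorem etSheafPred_Q : EtSheafPred (Q f F) where
  map _ _ g t h := q_map g t h
  desc T t ι U g hg hcov hU x := by
    obtain ⟨i, u, hu⟩ := hcov (pullback.snd f t x)
    have := hg i
    have H1 : IsPullback (pullback.fst (pullback.snd f t) (g i)) (pullback.snd (pullback.snd f t) (g i))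
      (pullback.snd f t) (g i) := IsPullback.of_hasPullback _ _
    obtain ⟨z, hz1, hz2⟩ := Scheme.Pullback.exists_preimage_pullback (f := pullback.snd f t) (g := g i) x u hu.symm
    have h1 := (q_iff (F := F) (H1.paste_horiz (IsPullback.of_hasPullback f t))).mp (hU i) z
    have h2 := isFlatOverAt_of_comp H1 _ rfl z h1
    have h3 : (pullback.fst (pullback.snd f t) (g i)).base z = x := hz1
    rwa [h3] at h2

/-- Over affine schemes, with a flat surjective affine chart of the source. -/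
theorem q_iff_flatP [IsAffine S] (hF : Coh.IsQCoh F) {U : Scheme.{u}} [IsAffine U] (π : U ⟶ X) [Flat π]
    [Surjective π] (T : Scheme.{u}) [IsAffine T] (t : T ⟶ S) :
    letI : Algebra Γ(S, ⊤) Γ(U, ⊤) := (π ≫ f).appTop.hom.toAlgebra
    letI : Algebra Γ(S, ⊤) Γ(T, ⊤) := t.appTop.hom.toAlgebra
    Q f F T t ↔ FlatP 0 Γ(S, ⊤) Γ(U, ⊤) Γ((Scheme.Modules.pullback π).obj F, ⊤) Γ(T, ⊤) := by
  let i1 : Algebra Γ(S, ⊤) Γ(U, ⊤) := (π ≫ f).appTop.hom.toAlgebra
  let i2 : Algebra Γ(S, ⊤) Γ(T, ⊤) := t.appTop.hom.toAlgebra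
  let N := (Scheme.Modules.pullback π).obj F
  have hN : Coh.IsQCoh N := FormalA.PullbackQC.isQCoh_pullback _ _ hF
  have e1 : (⊤ : U.Opens) ≤ (π ≫ f) ⁻¹ᵁ ⊤ := le_top
  let m1 : Module Γ(S, ⊤) Γ(N, ⊤) := Flat2C.FlatSec.moduleOver (π ≫ f) N e1
  have m2 : IsScalarTower Γ(S, ⊤) Γ(U, ⊤) Γ(N, ⊤) := .of_algebraMap_smul fun r x => by
    have : (π ≫ f).appLE ⊤ ⊤ e1 = (π ≫ f).appTop := Scheme.Hom.appLE_eq_app _
    change (π ≫ f).appTop r • x = (π ≫ f).appLE ⊤ ⊤ e1 r • x
    rw [this]
  change Q f F T t ↔ FlatP 0 Γ(S, ⊤) Γ(U, ⊤) Γ(N, ⊤) Γ(T, ⊤)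
  rw [flatP_zero_iff (A := Γ(S, ⊤)) (B := Γ(U, ⊤)) (N := Γ(N, ⊤)) (A' := Γ(T, ⊤))]
  have hU : IsAffineOpen (⊤ : U.Opens) := isAffineOpen_top _
  have H : IsPullback (pullback.fst (π ≫ f) t) (pullback.snd (π ≫ f) t) (π ≫ f) t := IsPullback.of_hasPullback _ _
  have haff : IsAffine (pullback (π ≫ f) t) := inferInstance
  have hV : IsAffineOpen (pullback.fst (π ≫ f) t ⁻¹ᵁ (⊤ : U.Opens)) := isAffineOpen_top _
  have key := K256.FlatStage.flat_pullback_iff H hU N hN hV e1
  rw [← key]
  have hsurj : Surjective (K256.SrcPull.kT f π (Over.mk t)) :=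
    MorphismProperty.of_isPullback (K256.SrcPull.isPullback_kT f π (Over.mk t)).flip inferInstance
  constructor
  · intro h x _
    exact (K256.SrcPull.flatOverAt_iff f π (Over.mk t) F x).mpr (h _)
  · intro h x
    obtain ⟨y, rfl⟩ := hsurj.surj x
    exact (K256.SrcPull.flatOverAt_iff f π (Over.mk t) F y).mp (h y trivial)

end

end K116.FlatQ
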