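import Groth.Agent.FlatMor.K116.FlatCx
import Groth.Agent.FlatMor.K116.FlatQ
import Groth.Agent.Ega3B.RpushAff
import Groth.Agent.CohqB.LocBaseRed

/-!
# Flatness of `R^n f_* F` over the base, and its base change, over affine bases
-/

set_option autoImplicit false
universe u

open CategoryTheory CategoryTheory.Limits AlgebraicGeometry TensorProduct
open Groth.Agent Groth.Agent.Flat2C.FlatSec

namespace K116.CohLoc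

theorem toGlobal_isoSpec {Z S : Scheme.{u}} [IsAffine S] (q : Z ⟶ S) (a : Γ(S, ⊤)) :
    Coh.toGlobal (A := Γ(S, ⊤)) (q ≫ S.isoSpec.hom) a = q.appTop a := by
  have h : S.isoSpec.hom.appTop = (Scheme.ΓSpecIso Γ(S, ⊤)).hom := Scheme.toSpecΓ_appTop S
  have h2 : (Scheme.ΓSpecIso Γ(S, ⊤)).inv ≫ (q ≫ S.isoSpec.hom).appTop = q.appTop := by
    rw [Scheme.Hom.comp_appTop, h, Iso.inv_hom_id_assoc]
  exact congr($(h2).hom a)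

theorem app_appLE {X Y S : Scheme.{u}} (lam : X ⟶ S) (mu : Y ⟶ S) (f : X ⟶ Y) (w : f ≫ mu = lam) (V : Y.Opens)
    (e : V ≤ mu ⁻¹ᵁ ⊤) : mu.appLE ⊤ V e ≫ f.app V ≫ (f ⁻¹ᵁ V).topIso.inv = ((f ⁻¹ᵁ V).ι ≫ lam).appTop := by
  subst w
  have h1 : (f ⁻¹ᵁ V).topIso.inv = (f ⁻¹ᵁ V).ι.appLE (f ⁻¹ᵁ V) ⊤ (by simp) := by
    simp only [Scheme.Hom.appLE, Scheme.Opens.ι_app, Scheme.Opens.topIso_inv, Scheme.Opens.toScheme_presheaf_map]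
    exact (X.presheaf.map_comp _ _)
  rw [h1, ← Scheme.Hom.appLE_eq_app, Scheme.Hom.appLE_comp_appLE, Scheme.Hom.appLE_comp_appLE, Scheme.Hom.appTop,
    ← Scheme.Hom.appLE_eq_app]
  rfl

variable {X Y S : Scheme.{u}} [IsAffine S] (lam : X ⟶ S) (mu : Y ⟶ S) (f : X ⟶ Y) (w : f ≫ mu = lam)

include w in
theorem exists_linearEquiv [QuasiCompact f] [QuasiSeparated f] [HasInjectiveResolutions X.Modules] (F : X.Modules)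
    (hF : Coh.IsQCoh F) {V : Y.Opens} (hV : IsAffineOpen V) (n : ℕ) (e : V ≤ mu ⁻¹ᵁ ⊤) :
    letI : (f ⁻¹ᵁ V).toScheme.Over (Spec (CommRingCat.of Γ(S, ⊤))) := ⟨((f ⁻¹ᵁ V).ι ≫ lam) ≫ S.isoSpec.hom⟩
    letI := moduleOver mu ((Coh.Rpush f n).obj F) e
    Nonempty (Γ((Coh.Rpush f n).obj F, V) ≃ₗ[Γ(S, ⊤)] Coh.HH (f ⁻¹ᵁ V).toScheme (F.restrict (f ⁻¹ᵁ V).ι) n) := by
  let _ : (f ⁻¹ᵁ V).toScheme.Over (Spec (CommRingCat.of Γ(S, ⊤))) := ⟨((f ⁻¹ᵁ V).ι ≫ lam) ≫ S.isoSpec.hom⟩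
  let _ := moduleOver mu ((Coh.Rpush f n).obj F) e
  obtain ⟨ε, hε⟩ := Ega3B.RpushAff.exists_equiv f F hF hV n
  refine ⟨{ ε with map_smul' := fun a x => ?_ }⟩
  change ε ((mu.appLE ⊤ V e a) • x) = (Coh.toGlobal (A := Γ(S, ⊤)) (((f ⁻¹ᵁ V).ι ≫ lam) ≫ S.isoSpec.hom) a) • ε x
  rw [hε, toGlobal_isoSpec, ← app_appLE lam mu f w V e]
  rfl

section BC

variable {X' Y' S' : Scheme.{u}} [IsAffine S'] {lam : X ⟶ S} {mu : Y ⟶ S} {f : X ⟶ Y}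
  {lam' : X' ⟶ S'} {mu' : Y' ⟶ S'} {f' : X' ⟶ Y'} {t : S' ⟶ S} {pX : X' ⟶ X} {pY : Y' ⟶ Y}

/-- The base change square over the affine spectra. -/
theorem isPullback_spec' {Z Z' : Scheme.{u}} {q : Z ⟶ S} {q' : Z' ⟶ S'} {g : Z' ⟶ Z} (H : IsPullback g q' q t) :
    IsPullback g (q' ≫ S'.isoSpec.hom) (q ≫ S.isoSpec.hom) (Spec.map (CommRingCat.ofHom t.appTop.hom)) := by
  refine IsPullback.of_iso H (Iso.refl _) (Iso.refl _) S'.isoSpec S.isoSpec (by simp) (by simp) (by simp) ?_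
  exact (Scheme.isoSpec_hom_naturality t).symm

theorem preimage_eq (hc : f' ≫ pY = pX ≫ f) (V : Y.Opens) : pX ⁻¹ᵁ (f ⁻¹ᵁ V) = f' ⁻¹ᵁ (pY ⁻¹ᵁ V) := by
  rw [← Scheme.Hom.comp_preimage, ← Scheme.Hom.comp_preimage, hc]

omit [IsAffine S] [IsAffine S'] in
/-- The restriction of the base change to `f⁻¹ V`. -/
theorem exists_restrict (HX : IsPullback pX lam' lam t) (hc : f' ≫ pY = pX ≫ f) (V : Y.Opens) :
    ∃ g : (f' ⁻¹ᵁ (pY ⁻¹ᵁ V)).toScheme ⟶ (f ⁻¹ᵁ V).toScheme, g ≫ (f ⁻¹ᵁ V).ι = (f' ⁻¹ᵁ (pY ⁻¹ᵁ V)).ι ≫ pX ∧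
      IsPullback g ((f' ⁻¹ᵁ (pY ⁻¹ᵁ V)).ι ≫ lam') ((f ⁻¹ᵁ V).ι ≫ lam) t := by
  let g : (f' ⁻¹ᵁ (pY ⁻¹ᵁ V)).toScheme ⟶ (f ⁻¹ᵁ V).toScheme :=
    IsOpenImmersion.lift (f ⁻¹ᵁ V).ι ((f' ⁻¹ᵁ (pY ⁻¹ᵁ V)).ι ≫ pX) (by
      rintro _ ⟨x, rfl⟩
      rw [Scheme.Opens.range_ι]
      have h := x.2
      have h2 : x.1 ∈ pX ⁻¹ᵁ (f ⁻¹ᵁ V) := by rw [preimage_eq hc]; exact h
      exact h2)
  have hg : g ≫ (f ⁻¹ᵁ V).ι = (f' ⁻¹ᵁ (pY ⁻¹ᵁ V)).ι ≫ pX := IsOpenImmersion.lift_fac _ _ _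
  refine ⟨g, hg, ?_⟩
  have h1 : IsPullback g (f' ⁻¹ᵁ (pY ⁻¹ᵁ V)).ι (f ⁻¹ᵁ V).ι pX :=
    IsOpenImmersion.isPullback _ _ _ _ hg.symm (by
      rw [Scheme.Opens.opensRange_ι, Scheme.Opens.opensRange_ι, preimage_eq hc])
  exact h1.paste_vert HX

/-- Base change of the cohomology of `f⁻¹ V`. -/
theorem nonempty_hh_equiv [QuasiCompact f] [IsSeparated lam] (HX : IsPullback pX lam' lam t)
    (hc : f' ≫ pY = pX ≫ f) (F : X.Modules) (hF : Coh.IsQCoh F) (hfl : FlatMod.IsFlatOver lam F) (F' : X'.Modules)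
    (eF : (Scheme.Modules.pullback pX).obj F ≅ F') {V : Y.Opens} (hV : IsAffineOpen V) (n : ℕ)
    (h : letI : (f ⁻¹ᵁ V).toScheme.Over (Spec (CommRingCat.of Γ(S, ⊤))) := ⟨((f ⁻¹ᵁ V).ι ≫ lam) ≫ S.isoSpec.hom⟩
      ∀ j, n < j → Module.Flat Γ(S, ⊤) (Coh.HH (f ⁻¹ᵁ V).toScheme (F.restrict (f ⁻¹ᵁ V).ι) j)) :
    letI : (f ⁻¹ᵁ V).toScheme.Over (Spec (CommRingCat.of Γ(S, ⊤))) := ⟨((f ⁻¹ᵁ V).ι ≫ lam) ≫ S.isoSpec.hom⟩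
    letI : (f' ⁻¹ᵁ (pY ⁻¹ᵁ V)).toScheme.Over (Spec (CommRingCat.of Γ(S', ⊤))) :=
      ⟨((f' ⁻¹ᵁ (pY ⁻¹ᵁ V)).ι ≫ lam') ≫ S'.isoSpec.hom⟩
    letI : Algebra Γ(S, ⊤) Γ(S', ⊤) := (t.appTop).hom.toAlgebra
    Nonempty (Coh.HH (f' ⁻¹ᵁ (pY ⁻¹ᵁ V)).toScheme (F'.restrict (f' ⁻¹ᵁ (pY ⁻¹ᵁ V)).ι) n ≃ₗ[Γ(S', ⊤)]
      Γ(S', ⊤) ⊗[Γ(S, ⊤)] Coh.HH (f ⁻¹ᵁ V).toScheme (F.restrict (f ⁻¹ᵁ V).ι) n) := by
  let i1 : (f ⁻¹ᵁ V).toScheme.Over (Spec (CommRingCat.of Γ(S, ⊤))) := ⟨((f ⁻¹ᵁ V).ι ≫ lam) ≫ S.isoSpec.hom⟩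
  let i2 : (f' ⁻¹ᵁ (pY ⁻¹ᵁ V)).toScheme.Over (Spec (CommRingCat.of Γ(S', ⊤))) :=
    ⟨((f' ⁻¹ᵁ (pY ⁻¹ᵁ V)).ι ≫ lam') ≫ S'.isoSpec.hom⟩
  obtain ⟨g, hg, hsq⟩ := exists_restrict HX hc V
  have hcomp : CompactSpace (f ⁻¹ᵁ V).toScheme :=
    isCompact_iff_compactSpace.mp (QuasiCompact.isCompact_preimage _ V.2 hV.isCompact)
  have hsep : IsSeparated ((f ⁻¹ᵁ V).toScheme ↘ Spec (CommRingCat.of Γ(S, ⊤))) :=
    inferInstanceAs (IsSeparated (((f ⁻¹ᵁ V).ι ≫ lam) ≫ S.isoSpec.hom))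
  have hF1 : Coh.IsQCoh (F.restrict (f ⁻¹ᵁ V).ι) := CohqB.LocalQC.isQCoh_restrict _ hF
  have hfl1 : FlatMod.IsFlatOver (((f ⁻¹ᵁ V).ι ≫ lam) ≫ S.isoSpec.hom) (F.restrict (f ⁻¹ᵁ V).ι) :=
    Ega3B.FlatRestrict.isFlatOver_restrict lam _ (f ⁻¹ᵁ V).ι S.isoSpec.inv (by simp) F hfl
  have eF1 : Nonempty ((Scheme.Modules.pullback g).obj (F.restrict (f ⁻¹ᵁ V).ι) ≅
      F'.restrict (f' ⁻¹ᵁ (pY ⁻¹ᵁ V)).ι) := by
    obtain ⟨a⟩ := CohqB.LocBaseRed.nonempty_pullback_iso (f ⁻¹ᵁ V) F g _ hg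
    let b : (Scheme.Modules.pullback ((f' ⁻¹ᵁ (pY ⁻¹ᵁ V)).ι ≫ pX)).obj F ≅
        (Scheme.Modules.pullback (f' ⁻¹ᵁ (pY ⁻¹ᵁ V)).ι).obj ((Scheme.Modules.pullback pX).obj F) :=
      ((Scheme.Modules.pullbackComp _ _).app F).symm
    let c : (Scheme.Modules.pullback (f' ⁻¹ᵁ (pY ⁻¹ᵁ V)).ι).obj ((Scheme.Modules.pullback pX).obj F) ≅
        (Scheme.Modules.pullback (f' ⁻¹ᵁ (pY ⁻¹ᵁ V)).ι).obj F' := (Scheme.Modules.pullback _).mapIso eF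
    exact ⟨a ≪≫ b ≪≫ c ≪≫ ((Scheme.Modules.restrictFunctorIsoPullback (f' ⁻¹ᵁ (pY ⁻¹ᵁ V)).ι).symm.app F')⟩
  obtain ⟨e1⟩ := eF1
  exact FlatCx.bck t.appTop.hom g (isPullback_spec' hsq) _ hF1 hfl1 n h _ e1

/-- Flatness of `R^n f_* F` over the base at the points over `V`. -/
theorem flat_rpush_iff [QuasiCompact f] [QuasiSeparated f] [HasInjectiveResolutions X.Modules] (w : f ≫ mu = lam)
    (F : X.Modules) (hF : Coh.IsQCoh F) {V : Y.Opens} (hV : IsAffineOpen V) (n : ℕ) :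
    letI : (f ⁻¹ᵁ V).toScheme.Over (Spec (CommRingCat.of Γ(S, ⊤))) := ⟨((f ⁻¹ᵁ V).ι ≫ lam) ≫ S.isoSpec.hom⟩
    (∀ y ∈ V, FlatMod.IsFlatOverAt mu ((Coh.Rpush f n).obj F) y) ↔
      Module.Flat Γ(S, ⊤) (Coh.HH (f ⁻¹ᵁ V).toScheme (F.restrict (f ⁻¹ᵁ V).ι) n) := by
  let i1 : (f ⁻¹ᵁ V).toScheme.Over (Spec (CommRingCat.of Γ(S, ⊤))) := ⟨((f ⁻¹ᵁ V).ι ≫ lam) ≫ S.isoSpec.hom⟩
  have e : V ≤ mu ⁻¹ᵁ ⊤ := le_top
  let m1 := moduleOver mu ((Coh.Rpush f n).obj F) e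
  obtain ⟨ε⟩ := exists_linearEquiv lam mu f w F hF hV n e
  rw [← flat_sections_iff mu _ hV (isAffineOpen_top S) e (CohqA.RelCoh.isQCoh_Rpush f F hF n)]
  exact Module.Flat.equiv_iff ε

/-- **Base change of `R^n f_* F` and flatness**, affine bases: if `R^j f_* F` is flat over `S` for `j > n` then
`R^n f'_* F'` is flat over `S'` iff the pullback of `R^n f_* F` is. -/
theorem flat_iff [QuasiCompact f] [QuasiSeparated f] [QuasiCompact f'] [QuasiSeparated f'] [IsSeparated lam]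
    [HasInjectiveResolutions X.Modules] [HasInjectiveResolutions X'.Modules] (w : f ≫ mu = lam) (w' : f' ≫ mu' = lam')
    (HX : IsPullback pX lam' lam t) (HY : IsPullback pY mu' mu t) (hc : f' ≫ pY = pX ≫ f) (F : X.Modules)
    (hF : Coh.IsQCoh F) (hfl : FlatMod.IsFlatOver lam F) (F' : X'.Modules)
    (eF : (Scheme.Modules.pullback pX).obj F ≅ F') (n : ℕ)
    (h : ∀ j, n < j → FlatMod.IsFlatOver mu ((Coh.Rpush f j).obj F)) :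
    FlatMod.IsFlatOver mu' ((Coh.Rpush f' n).obj F') ↔
      FlatMod.IsFlatOver mu' ((Scheme.Modules.pullback pY).obj ((Coh.Rpush f n).obj F)) := by
  have hF' : Coh.IsQCoh F' := (SheafOfModules.isQuasicoherent X'.ringCatSheaf).prop_of_iso eF
    (FormalA.PullbackQC.isQCoh_pullback _ _ hF)
  have hpY : IsAffineHom pY := MorphismProperty.of_isPullback HY.flip inferInstance
  have key : ∀ (V : Y.Opens), IsAffineOpen V →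
      ((∀ y ∈ pY ⁻¹ᵁ V, FlatMod.IsFlatOverAt mu' ((Coh.Rpush f' n).obj F') y) ↔
        (∀ y ∈ pY ⁻¹ᵁ V, FlatMod.IsFlatOverAt mu' ((Scheme.Modules.pullback pY).obj ((Coh.Rpush f n).obj F)) y)) := by
    intro V hV
    let i1 : (f ⁻¹ᵁ V).toScheme.Over (Spec (CommRingCat.of Γ(S, ⊤))) := ⟨((f ⁻¹ᵁ V).ι ≫ lam) ≫ S.isoSpec.hom⟩
    let i2 : (f' ⁻¹ᵁ (pY ⁻¹ᵁ V)).toScheme.Over (Spec (CommRingCat.of Γ(S', ⊤))) :=
      ⟨((f' ⁻¹ᵁ (pY ⁻¹ᵁ V)).ι ≫ lam') ≫ S'.isoSpec.hom⟩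
    let i3 : Algebra Γ(S, ⊤) Γ(S', ⊤) := (t.appTop).hom.toAlgebra
    have hV' : IsAffineOpen (pY ⁻¹ᵁ V) := hV.preimage pY
    have e : V ≤ mu ⁻¹ᵁ ⊤ := le_top
    let m1 := moduleOver mu ((Coh.Rpush f n).obj F) e
    obtain ⟨ε⟩ := exists_linearEquiv lam mu f w F hF hV n e
    obtain ⟨δ⟩ := nonempty_hh_equiv HX hc F hF hfl F' eF hV n
      (fun j hj => (flat_rpush_iff w F hF hV j).1 fun y _ => h j hj y)
    rw [flat_rpush_iff w' F' hF' hV' n, K256.FlatStage.flat_pullback_iff HY hV _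
      (CohqA.RelCoh.isQCoh_Rpush f F hF n) hV' e]
    exact Module.Flat.equiv_iff (δ.trans (TensorProduct.AlgebraTensorModule.congr (LinearEquiv.refl _ _) ε.symm))
  constructor
  · intro hh y
    obtain ⟨_, ⟨V, hV, rfl⟩, hyV, -⟩ := Y.isBasis_affineOpens.exists_subset_of_mem_open (Set.mem_univ (pY y)) isOpen_univ
    exact (key V hV).1 (fun y _ => hh y) y hyV
  · intro hh y
    obtain ⟨_, ⟨V, hV, rfl⟩, hyV, -⟩ := Y.isBasis_affineOpens.exists_subset_of_mem_open (Set.mem_univ (pY y)) isOpen_univ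
    exact (key V hV).2 (fun y _ => hh y) y hyV

/-- `R^n f_* F` is flat over the base for large `n`. -/
theorem exists_large [CompactSpace Y] [QuasiCompact f] [QuasiSeparated f] [HasInjectiveResolutions X.Modules]
    (w : f ≫ mu = lam) (F : X.Modules) (hF : Coh.IsQCoh F) :
    ∃ N : ℕ, ∀ n, N ≤ n → FlatMod.IsFlatOver mu ((Coh.Rpush f n).obj F) := by
  have h1 : ∀ y : Y, ∃ (V : Y.Opens) (N : ℕ), y ∈ V ∧ ∀ n, N ≤ n → ∀ z ∈ V,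
      FlatMod.IsFlatOverAt mu ((Coh.Rpush f n).obj F) z := by
    intro y
    obtain ⟨_, ⟨V, hV, rfl⟩, hyV, -⟩ := Y.isBasis_affineOpens.exists_subset_of_mem_open (Set.mem_univ y) isOpen_univ
    have hcomp : CompactSpace (f ⁻¹ᵁ V).toScheme :=
      isCompact_iff_compactSpace.mp (QuasiCompact.isCompact_preimage _ V.2 hV.isCompact)
    have hVa : IsAffine (V : Scheme.{u}) := hV
    have hqs : QuasiSeparatedSpace (f ⁻¹ᵁ V).toScheme := by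
      have : QuasiSeparated (f ∣_ V) := inferInstance
      exact quasiSeparatedSpace_of_quasiSeparated (f ∣_ V)
    obtain ⟨N, hN⟩ := S0016.result (f ⁻¹ᵁ V).toScheme
    refine ⟨V, N, hyV, fun n hn => ?_⟩
    rw [flat_rpush_iff w F hF hV n]
    have := hN (F.restrict (f ⁻¹ᵁ V).ι) (CohqB.LocalQC.isQCoh_restrict _ hF) n hn
    infer_instance
  choose V N hV hN using h1
  obtain ⟨s, hs⟩ := isCompact_univ.elim_finite_subcover (fun y => (V y : Set Y)) (fun y => (V y).2)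
    (fun y _ => Set.mem_iUnion.2 ⟨y, hV y⟩)
  refine ⟨s.sup N, fun n hn y => ?_⟩
  obtain ⟨z, hz⟩ := Set.mem_iUnion.1 (hs (Set.mem_univ y))
  obtain ⟨hzs, hyz⟩ := Set.mem_iUnion.1 hz
  exact hN z n ((Finset.le_sup hzs).trans hn) y hyz

end BC

end K116.CohLoc
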