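import Groth.Agent.Flat2B.RepPred
import Groth.Agent.Sga3.H772.MonoGlue

/-!
# Representability by a monomorphism of finite presentation is Zariski local on the base
-/

set_option autoImplicit false
universe u

open CategoryTheory CategoryTheory.Limits AlgebraicGeometry
open Groth.Agent Groth.Agent.Flat2B.RepPred

namespace K116.GlueRep

/-- The pullback of a monomorphism through which a base change factors. -/
theorem isPullback_of_factor {T S S' Z : Scheme.{u}} (t : T ⟶ S) (u : S' ⟶ S) (z : Z ⟶ S') [Mono z]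
    (g : pullback t u ⟶ Z) (hg : g ≫ z = pullback.snd t u) :
    IsPullback (pullback.fst t u) g t (z ≫ u) := by
  refine ⟨⟨by rw [← Category.assoc, hg, pullback.condition]⟩, ⟨PullbackCone.IsLimit.mk _
    (fun s => pullback.lift s.fst (s.snd ≫ z) (by rw [s.condition, Category.assoc])) (fun s => ?_) (fun s => ?_)
    (fun s m h1 h2 => ?_)⟩⟩
  · exact pullback.lift_fst _ _ _
  · rw [← cancel_mono z, Category.assoc, hg, pullback.lift_snd]
  · refine pullback.hom_ext ?_ ?_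
    · rw [pullback.lift_fst, h1]
    · rw [pullback.lift_snd, ← hg, ← Category.assoc, h2]

/-- Zariski local representability. -/
theorem repOver_of_cover {S : Scheme.{u}} {Q : ∀ T : Scheme.{u}, (T ⟶ S) → Prop} (hQ : EtSheafPred Q)
    (𝒰 : Scheme.OpenCover.{u} S) (h : ∀ i, RepOver Q (𝒰.f i)) : RepOver Q (𝟙 S) := by
  choose Z z hz1 hz2 hz3 hz4 using h
  let P : ∀ {T : Scheme.{u}}, (T ⟶ S) → Prop := fun {T} t => Q T t
  have hP1 : ∀ {T T' : Scheme.{u}} (h : T' ⟶ T) (t : T ⟶ S), P t → P (h ≫ t) := fun {T T'} h t ht => hQ.map T T' h t ht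
  have hP2 : ∀ {T : Scheme.{u}} (t : T ⟶ S) (𝒱 : Scheme.OpenCover.{u} T), (∀ i, P (𝒱.f i ≫ t)) → P t := by
    intro T t 𝒱 h
    refine hQ.desc T t 𝒱.I₀ (fun i => 𝒱.X i) (fun i => 𝒱.f i) (fun i => inferInstance) (fun x => ?_) h
    obtain ⟨i, y, hy⟩ := Scheme.Cover.exists_eq 𝒱 x
    exact ⟨i, y, hy⟩
  have hX : ∀ i, P (z i ≫ 𝒰.f i) := fun i => (hz4 i _ (z i)).2 ⟨𝟙 _, Category.id_comp _⟩
  have hfac : ∀ {T : Scheme.{u}} (t : T ⟶ S), P t → ∀ i, ∃ g : pullback t (𝒰.f i) ⟶ Z i,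
      g ≫ z i = pullback.snd t (𝒰.f i) := fun {T} t ht i =>
    (hz4 i _ _).1 (by rw [← pullback.condition]; exact hP1 _ _ ht)
  have hsq : ∀ {T : Scheme.{u}} (t : T ⟶ S), P t → ∀ i, ∃ g : pullback t (𝒰.f i) ⟶ Z i,
      IsPullback (pullback.fst t (𝒰.f i)) g t (z i ≫ 𝒰.f i) := fun {T} t ht i => by
    obtain ⟨g, hg⟩ := hfac t ht i
    exact ⟨g, isPullback_of_factor t (𝒰.f i) (z i) g hg⟩
  have hopen : ∀ {T : Scheme.{u}} (t : T ⟶ S), P t → ∀ i, IsOpenImmersion (pullback.fst t (z i ≫ 𝒰.f i)) := by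
    intro T t ht i
    obtain ⟨g, hg⟩ := hsq t ht i
    rw [← hg.isoPullback_inv_fst]
    infer_instance
  have hcov : ∀ {T : Scheme.{u}} (t : T ⟶ S), P t → ∀ x : T, ∃ i, x ∈ Set.range (pullback.fst t (z i ≫ 𝒰.f i)) := by
    intro T t ht x
    obtain ⟨i, y, hy⟩ := Scheme.Cover.exists_eq 𝒰 (t x)
    obtain ⟨g, hg⟩ := hsq t ht i
    obtain ⟨w, hw, -⟩ := Scheme.Pullback.exists_preimage_pullback (f := t) (g := 𝒰.f i) x y hy.symm
    refine ⟨i, hg.isoPullback.hom w, ?_⟩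
    rw [← Scheme.Hom.comp_apply, hg.isoPullback_hom_fst, hw]
  obtain ⟨S', m', hm', hPm', hall⟩ := Groth.Agent.Sga3.H772.MonoGlue.exists_mono P hP1 hP2
    (fun i => z i ≫ 𝒰.f i) hX hopen hcov
  have hpb : ∀ i, ∃ s : Z i ⟶ S', IsPullback s (z i) m' (𝒰.f i) := by
    intro i
    obtain ⟨s, hs⟩ := hall _ (hX i)
    obtain ⟨g, hg⟩ := hfac m' hPm' i
    refine ⟨s, ⟨⟨hs⟩, ⟨PullbackCone.IsLimit.mk _
      (fun c => pullback.lift c.fst c.snd c.condition ≫ g) (fun c => ?_) (fun c => ?_)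
      (fun c m h1 h2 => ?_)⟩⟩⟩
    · rw [← cancel_mono m', Category.assoc, Category.assoc, hs, ← Category.assoc g, hg, ← Category.assoc,
        pullback.lift_snd, c.condition]
    · rw [Category.assoc, hg, pullback.lift_snd]
    · rw [← cancel_mono (z i), h2, Category.assoc, hg, pullback.lift_snd]
  have hloc : ∀ (W : MorphismProperty Scheme.{u}) [IsZariskiLocalAtTarget W], (∀ i, W (z i)) → W m' := by
    intro W _ hW
    refine IsZariskiLocalAtTarget.of_openCover (P := W) 𝒰 fun i => ?_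
    obtain ⟨s, hs⟩ := hpb i
    change W (pullback.snd m' (𝒰.f i))
    rw [← hs.isoPullback_inv_snd]
    exact (W.cancel_left_of_respectsIso _ _).mpr (hW i)
  refine ⟨S', m', hm', hloc @LocallyOfFinitePresentation hz2, hloc @QuasiCompact hz3, fun T t => ?_⟩
  rw [Category.comp_id]
  constructor
  · exact fun ht => hall t ht
  · rintro ⟨g, rfl⟩
    exact hP1 g m' hPm'

end K116.GlueRep
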