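import Groth.Agent.FlatMor.K116.PropRep
import Groth.Agent.FlatMor.K116.GlueRep

/-!
# Representability of the flattening functor of a proper morphism
-/

set_option autoImplicit false
universe u

open CategoryTheory CategoryTheory.Limits AlgebraicGeometry TensorProduct
open Groth.Agent Groth.Agent.Flat2B Groth.Agent.Flat2B.RepPred

namespace K116.PropMain

open K116.FlatQ

/-- everything is flat over a field -/
theorem flat_over_field {K : Type u} [Field K] {Y : Scheme.{u}} (q : Y ⟶ Spec (CommRingCat.of K))
    (M : Y.Modules) : FlatMod.IsFlatOver q M := by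
  intro x
  unfold FlatMod.IsFlatOverAt
  let _ := FlatMod.moduleStalkOver q M x
  let _ : Algebra K ((Spec (CommRingCat.of K)).presheaf.stalk (q.base x)) :=
    StructureSheaf.stalkAlgebra (R := K) (q.base x)
  have : IsLocalization.AtPrime ((Spec (CommRingCat.of K)).presheaf.stalk (q.base x)) (q.base x).asIdeal :=
    StructureSheaf.IsLocalization.to_stalk K (q.base x)
  let _ : Module K (M.presheaf.stalk x) :=
    Module.compHom _ (algebraMap K ((Spec (CommRingCat.of K)).presheaf.stalk (q.base x)))
  have : IsScalarTower K ((Spec (CommRingCat.of K)).presheaf.stalk (q.base x)) (M.presheaf.stalk x) :=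
    IsScalarTower.of_algebraMap_smul fun _ _ => rfl
  rw [Module.flat_iff_of_isLocalization (R := K) ((Spec (CommRingCat.of K)).presheaf.stalk (q.base x))
    (q.base x).asIdeal.primeCompl]
  infer_instance

variable {X S : Scheme.{u}} {f : X ⟶ S} {F : X.Modules}

theorem q_comp_iff {S' T : Scheme.{u}} (u : S' ⟶ S) (t : T ⟶ S') :
    Q f F T (t ≫ u) ↔ Q (pullback.snd f u) ((Scheme.Modules.pullback (pullback.fst f u)).obj F) T t := by
  have H1 : IsPullback (pullback.fst (pullback.snd f u) t) (pullback.snd (pullback.snd f u) t) (pullback.snd f u) t :=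
    IsPullback.of_hasPullback _ _
  rw [q_iff (H1.paste_horiz (IsPullback.of_hasPullback f u))]
  constructor
  · intro h z
    exact Models2.FlatIso.isFlatOverAt_of_iso _ (pullIso _ _ _ rfl F).symm z (h z)
  · intro h z
    exact Models2.FlatIso.isFlatOverAt_of_iso _ (pullIso _ _ _ rfl F) z (h z)

/-- A monomorphism representing a predicate which holds at all residue fields is surjective. -/
theorem surjective_of_field {S' : Scheme.{u}} (ι : S' ⟶ S)
    (h : ∀ s : S, ∃ t' : Spec (S.residueField s) ⟶ S', t' ≫ ι = S.fromSpecResidueField s) : Surjective ι := by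
  refine ⟨fun s => ?_⟩
  obtain ⟨t', ht'⟩ := h s
  refine ⟨t' (IsLocalRing.closedPoint (S.residueField s)), ?_⟩
  rw [← Scheme.Hom.comp_apply, ht']
  exact Scheme.fromSpecResidueField_apply s _

variable (f) in
/-- Representability of the flattening functor of a finitely presented module on a proper scheme. -/
theorem repOver [IsProper f] [LocallyOfFinitePresentation f] (hF : CohB1.IsFP F) : RepOver (Q f F) (𝟙 S) := by
  refine GlueRep.repOver_of_cover etSheafPred_Q S.affineCover fun i => ?_
  have h1 : RepOver (Q (pullback.snd f (S.affineCover.f i))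
      ((Scheme.Modules.pullback (pullback.fst f (S.affineCover.f i))).obj F)) (𝟙 (S.affineCover.X i)) :=
    PropRep.repOver_affine _ _ (FormalA.PullbackQC.isFP_pullback _ _ hF)
  obtain ⟨Z, z, hz1, hz2, hz3, hz4⟩ := h1
  refine ⟨Z, z, hz1, hz2, hz3, fun T t => ?_⟩
  rw [q_comp_iff, ← hz4, Category.comp_id]

variable (f) in
theorem exists_mono [IsProper f] [LocallyOfFinitePresentation f] (hF : CohB1.IsFP F) :
    ∃ (S' : Scheme.{u}) (ι : S' ⟶ S), Mono ι ∧ LocallyOfFinitePresentation ι ∧ QuasiCompact ι ∧ Surjective ι ∧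
      ∀ (T : Scheme.{u}) (t : T ⟶ S), Q f F T t ↔ ∃ t' : T ⟶ S', t' ≫ ι = t := by
  obtain ⟨S', ι, h1, h2, h3, h4⟩ := repOver f hF
  have h5 : ∀ (T : Scheme.{u}) (t : T ⟶ S), Q f F T t ↔ ∃ t' : T ⟶ S', t' ≫ ι = t := fun T t => by
    rw [← h4, Category.comp_id]
  exact ⟨S', ι, h1, h2, h3, surjective_of_field ι fun s => (h5 _ _).1 (flat_over_field _ _), h5⟩

end K116.PropMain
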