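import Groth.Agent.FlatMor.K116.CohLoc
import Groth.Agent.FlatMor.K116.PropMain
import Groth.Agent.CohqA.FBCMain
import Groth.Agent.S0485

/-!
# Flatness of `R^n f_* F` over the base and base change, for a morphism of proper schemes over a base
-/

set_option autoImplicit false
universe u

open CategoryTheory CategoryTheory.Limits AlgebraicGeometry
open Groth.Agent Groth.Agent.Flat2B.RepPred

namespace K116

instance (priority := low) hasInj (X : Scheme.{u}) : HasInjectiveResolutions X.Modules := by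
  have : EnoughInjectives X.Modules := S0485.result _ X.ringCatSheaf
  infer_instance

/-- A morphism `f : X ⟶ Y` of `S`-schemes with a module on `X`. -/
structure Dat (S : Scheme.{u}) where
  /-- source -/
  X : Scheme.{u}
  /-- target -/
  Y : Scheme.{u}
  /-- structure morphism -/
  lam : X ⟶ S
  /-- structure morphism -/
  mu : Y ⟶ S
  /-- the morphism -/
  f : X ⟶ Y
  w : f ≫ mu = lam
  /-- the module -/
  F : X.Modules

namespace Dat

variable {S T : Scheme.{u}}

/-- Base change. -/
noncomputable def bc (D : Dat S) (t : T ⟶ S) : Dat T where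
  X := pullback D.lam t
  Y := pullback D.mu t
  lam := pullback.snd _ _
  mu := pullback.snd _ _
  f := pullback.lift (pullback.fst _ _ ≫ D.f) (pullback.snd _ _) (by rw [Category.assoc, D.w, pullback.condition])
  w := pullback.lift_snd _ _ _
  F := (Scheme.Modules.pullback (pullback.fst _ _)).obj D.F

/-- `R^n f_* F`. -/
noncomputable def R (D : Dat S) (n : ℕ) : D.Y.Modules := (Coh.Rpush D.f n).obj D.F

/-- `R^n f_* F` is flat over the base. -/
def FlatR (D : Dat S) (n : ℕ) : Prop := FlatMod.IsFlatOver D.mu (D.R n)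

/-- The hypotheses. -/
structure Good (D : Dat S) : Prop where
  pl : IsProper D.lam
  pm : IsProper D.mu
  q : Coh.IsQCoh D.F
  fl : FlatMod.IsFlatOver D.lam D.F

theorem Good.pf {D : Dat S} (h : D.Good) : IsProper D.f := by
  have := h.pl
  have := h.pm
  have : IsProper (D.f ≫ D.mu) := by rw [D.w]; infer_instance
  exact IsProper.of_comp D.f D.mu

/-- `D'` is a base change of `D` along `t`. -/
structure BC (t : T ⟶ S) (D' : Dat T) (D : Dat S) where
  /-- projection -/
  pX : D'.X ⟶ D.X
  /-- projection -/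
  pY : D'.Y ⟶ D.Y
  HX : IsPullback pX D'.lam D.lam t
  HY : IsPullback pY D'.mu D.mu t
  hc : D'.f ≫ pY = pX ≫ D.f
  /-- the module -/
  e : (Scheme.Modules.pullback pX).obj D.F ≅ D'.F

/-- The chosen base change. -/
noncomputable def bcBC (D : Dat S) (t : T ⟶ S) : BC t (D.bc t) D where
  pX := pullback.fst _ _
  pY := pullback.fst _ _
  HX := IsPullback.of_hasPullback _ _
  HY := IsPullback.of_hasPullback _ _
  hc := pullback.lift_fst _ _ _
  e := Iso.refl _

namespace BC

variable {t : T ⟶ S} {D' : Dat T} {D : Dat S}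

/-- composition -/
noncomputable def comp {U : Scheme.{u}} {s : U ⟶ T} {D'' : Dat U} (b : BC t D' D) (b' : BC s D'' D') :
    BC (s ≫ t) D'' D where
  pX := b'.pX ≫ b.pX
  pY := b'.pY ≫ b.pY
  HX := b'.HX.paste_horiz b.HX
  HY := b'.HY.paste_horiz b.HY
  hc := by rw [← Category.assoc, b'.hc, Category.assoc, b.hc, Category.assoc]
  e := ((Scheme.Modules.pullbackComp b'.pX b.pX).symm.app D.F) ≪≫ (Scheme.Modules.pullback b'.pX).mapIso b.e ≪≫ b'.e

/-- transport -/
noncomputable def cast {t' : T ⟶ S} (h : t = t') (b : BC t D' D) : BC t' D' D where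
  pX := b.pX
  pY := b.pY
  HX := by subst h; exact b.HX
  HY := by subst h; exact b.HY
  hc := b.hc
  e := b.e

/-- cancellation -/
noncomputable def cancel {U : Scheme.{u}} {s : U ⟶ T} {D'' : Dat U} (b : BC t D' D) (b' : BC (s ≫ t) D'' D) :
    BC s D'' D' where
  pX := b.HX.lift b'.pX (D''.lam ≫ s) (by rw [b'.HX.w, Category.assoc])
  pY := b.HY.lift b'.pY (D''.mu ≫ s) (by rw [b'.HY.w, Category.assoc])
  HX := IsPullback.of_right (by rw [b.HX.lift_fst]; exact b'.HX) (b.HX.lift_snd _ _ _) b.HX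
  HY := IsPullback.of_right (by rw [b.HY.lift_fst]; exact b'.HY) (b.HY.lift_snd _ _ _) b.HY
  hc := by
    have h1 := b.HX.lift_fst b'.pX (D''.lam ≫ s) (by rw [b'.HX.w, Category.assoc])
    have h2 := b.HX.lift_snd b'.pX (D''.lam ≫ s) (by rw [b'.HX.w, Category.assoc])
    have h3 := b.HY.lift_fst b'.pY (D''.mu ≫ s) (by rw [b'.HY.w, Category.assoc])
    have h4 := b.HY.lift_snd b'.pY (D''.mu ≫ s) (by rw [b'.HY.w, Category.assoc])
    revert h1 h2 h3 h4
    generalize b.HX.lift _ _ _ = L
    generalize b.HY.lift _ _ _ = L'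
    intro h1 h2 h3 h4
    apply b.HY.hom_ext
    · rw [Category.assoc, Category.assoc, h3, b.hc, ← Category.assoc, h1, b'.hc]
    · rw [Category.assoc, Category.assoc, h4, D'.w, h2, ← Category.assoc, D''.w]
  e := (Scheme.Modules.pullback _).mapIso b.e.symm ≪≫ (Scheme.Modules.pullbackComp _ b.pX).app D.F ≪≫
    (Scheme.Modules.pullbackCongr (b.HX.lift_fst _ _ _)).app D.F ≪≫ b'.e

theorem cancel_pY {U : Scheme.{u}} {s : U ⟶ T} {D'' : Dat U} (b : BC t D' D) (b' : BC (s ≫ t) D'' D) :
    (b.cancel b').pY ≫ b.pY = b'.pY := b.HY.lift_fst _ _ _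

theorem good (b : BC t D' D) (h : D.Good) : D'.Good where
  pl := by
    have := h.pl
    exact MorphismProperty.of_isPullback b.HX this
  pm := by
    have := h.pm
    exact MorphismProperty.of_isPullback b.HY this
  q := (SheafOfModules.isQuasicoherent D'.X.ringCatSheaf).prop_of_iso b.e
    (FormalA.PullbackQC.isQCoh_pullback _ _ h.q)
  fl := fun x => Models2.FlatIso.isFlatOverAt_of_iso _ b.e x (Fdesc.FlatBC.isFlatOverAt_pullback b.HX _ x (h.fl _))

theorem H (b : BC t D' D) : IsPullback b.pX D'.f D.f b.pY := by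
  refine IsPullback.of_bot ?_ b.hc.symm b.HY
  rw [D'.w, D.w]
  exact b.HX

/-- Flat base change. -/
theorem nonempty_iso (b : BC t D' D) [Flat t] (h : D.Good) (n : ℕ) :
    Nonempty ((Scheme.Modules.pullback b.pY).obj (D.R n) ≅ D'.R n) := by
  have := h.pf
  have hfl : Flat b.pY := MorphismProperty.of_isPullback b.HY.flip inferInstance
  obtain ⟨e⟩ := CohqA.FBCMain.nonempty_iso b.H D.F h.q n
  exact ⟨e ≪≫ (Coh.Rpush D'.f n).mapIso b.e⟩

theorem flatAt_iff (b : BC t D' D) [Flat t] (h : D.Good) (n : ℕ) (y : D'.Y) :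
    FlatMod.IsFlatOverAt D'.mu (D'.R n) y ↔ FlatMod.IsFlatOverAt D.mu (D.R n) (b.pY.base y) := by
  obtain ⟨e⟩ := b.nonempty_iso h n
  constructor
  · intro h1
    exact Fdesc.FlatBC.isFlatOverAt_of_pullback b.HY _ y (Models2.FlatIso.isFlatOverAt_of_iso _ e.symm y h1)
  · intro h1
    exact Models2.FlatIso.isFlatOverAt_of_iso _ e y (Fdesc.FlatBC.isFlatOverAt_pullback b.HY _ y h1)

end BC

end Dat

end K116
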