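import Groth.Agent.FlatMor.K116.DatRep
import Groth.Agent.S9218
import Groth.Agent.PerfB.ApproxMain
import Groth.Agent.PerfB.StructFlat
import Groth.Agent.Flat2D.SpecFGLimit

/-!
# Noetherian approximation and the general case
-/

set_option autoImplicit false
universe u

open CategoryTheory CategoryTheory.Limits AlgebraicGeometry Opposite
open Groth.Agent Groth.Agent.Flat2B.RepPred Groth.Agent.Flat2D.SpecFGLimit

namespace K116.Dat

/-- Base change of a model to a larger stage. -/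
theorem exists_stage {A : Type u} [CommRing A] (B C : Subalgebra ℤ A) (hBC : B ≤ C) {X X₁ : Scheme.{u}}
    {lam : X ⟶ Spec (CommRingCat.of A)} {f₁ : X₁ ⟶ Spec (CommRingCat.of B)} {g₁ : X ⟶ X₁}
    (H : IsPullback g₁ lam f₁ (Spec.map (CommRingCat.ofHom (algebraMap B A)))) :
    ∃ q : X ⟶ pullback f₁ (Spec.map (CommRingCat.ofHom (Subalgebra.inclusion hBC).toRingHom)),
      q ≫ pullback.fst _ _ = g₁ ∧
      IsPullback q lam (pullback.snd f₁ (Spec.map (CommRingCat.ofHom (Subalgebra.inclusion hBC).toRingHom)))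
        (Spec.map (CommRingCat.ofHom (algebraMap C A))) := by
  have e : Spec.map (CommRingCat.ofHom (algebraMap C A)) ≫
      Spec.map (CommRingCat.ofHom (Subalgebra.inclusion hBC).toRingHom) =
      Spec.map (CommRingCat.ofHom (algebraMap B A)) := by
    rw [← Spec.map_comp, ← CommRingCat.ofHom_comp]
    rfl
  have H' : IsPullback g₁ lam f₁ (Spec.map (CommRingCat.ofHom (algebraMap C A)) ≫
    Spec.map (CommRingCat.ofHom (Subalgebra.inclusion hBC).toRingHom)) := by rw [e]; exact H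
  let q := pullback.lift (f := f₁) (g := Spec.map (CommRingCat.ofHom (Subalgebra.inclusion hBC).toRingHom)) g₁
    (lam ≫ Spec.map (CommRingCat.ofHom (algebraMap C A))) (by rw [H'.w, Category.assoc])
  have hq1 : q ≫ pullback.fst _ _ = g₁ := pullback.lift_fst _ _ _
  have hq2 : q ≫ pullback.snd _ _ = lam ≫ Spec.map (CommRingCat.ofHom (algebraMap C A)) := pullback.lift_snd _ _ _
  refine ⟨q, hq1, ?_⟩
  refine IsPullback.of_right ?_ hq2 (IsPullback.of_hasPullback _ _)
  rw [hq1]
  exact H'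

theorem of_right_aux {X X₃ S S₃ S₀ : Scheme.{u}} {lam : X ⟶ S} {x₃ : X₃ ⟶ S₃} {c : S ⟶ S₃} {c₀ : S ⟶ S₀}
    {ψ : S₀ ⟶ S₃} (hc : c₀ ≫ ψ = c) {q : X ⟶ X₃} (H : IsPullback q lam x₃ c) {s : X ⟶ pullback x₃ ψ}
    (h1 : s ≫ pullback.fst x₃ ψ = q) (h2 : s ≫ pullback.snd x₃ ψ = lam ≫ c₀) :
    IsPullback s lam (pullback.snd x₃ ψ) c₀ := by
  subst hc
  subst h1
  exact IsPullback.of_right H h2 (IsPullback.of_hasPullback _ _)

theorem exists_model {A : Type u} [CommRing A] (D : Dat (Spec (CommRingCat.of A))) (h : D.Good) (h' : D.Fp)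
    (hl : LocallyOfFinitePresentation D.lam) :
    ∃ (R : CommRingCat.{u}) (_ : IsNoetherianRing R) (s : Spec (CommRingCat.of A) ⟶ Spec R) (D₀ : Dat (Spec R)),
      D₀.Good ∧ D₀.Fp ∧ Nonempty (BC s D D₀) := by
  have hpl := h.pl
  have hpm := h.pm
  have hm := h'.pm
  obtain ⟨A₁, X₁, f₁, g₁, F₁, a1, a2, a3, a4, a5, a6, ⟨e1⟩, a7, -, a8, -, -⟩ :=
    PerfB.ApproxMain.exists_noetherian_model A D.lam D.F h'.fp
  obtain ⟨A₂, Y₂, f₂, g₂, F₂, b1, b2, b3, b4, b5, -, -, -, -, b8, -, -⟩ :=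
    PerfB.ApproxMain.exists_noetherian_model A D.mu _ (PerfB.StructFlat.isFP_structure (X := D.Y))
  have c1 := a8 hpl
  have c2 := b8 hpm
  have c3 := a7 h.fl
  let C : FGSub A := ⟨A₁ ⊔ A₂, a1.sup b1⟩
  have h1 : A₁ ≤ C.1 := le_sup_left
  have h2 : A₂ ≤ C.1 := le_sup_right
  obtain ⟨qX, hqX, HX⟩ := exists_stage A₁ C.1 h1 a5
  obtain ⟨qY, hqY, HY⟩ := exists_stage A₂ C.1 h2 b5
  let X₃ := pullback f₁ (Spec.map (CommRingCat.ofHom (Subalgebra.inclusion h1).toRingHom))
  let Y₃ := pullback f₂ (Spec.map (CommRingCat.ofHom (Subalgebra.inclusion h2).toRingHom))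
  let x₃ : X₃ ⟶ Spec (CommRingCat.of C.1) := pullback.snd _ _
  let y₃ : Y₃ ⟶ Spec (CommRingCat.of C.1) := pullback.snd _ _
  let F₃ : X₃.Modules := (Scheme.Modules.pullback (pullback.fst _ _)).obj F₁
  have d1 : IsProper x₃ := inferInstance
  have d2 : IsProper y₃ := inferInstance
  have d3 : LocallyOfFinitePresentation x₃ := inferInstance
  have d4 : LocallyOfFinitePresentation y₃ := inferInstance
  have d5 : CohB1.IsFP F₃ := FormalA.PullbackQC.isFP_pullback _ _ a6
  have d6 : FlatMod.IsFlatOver x₃ F₃ := fun z =>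
    Fdesc.FlatBC.isFlatOverAt_pullback (IsPullback.of_hasPullback _ _) F₁ z (c3 _)
  have d7 : CompactSpace X₃ := QuasiCompact.compactSpace_of_compactSpace x₃
  have d8 : QuasiSeparatedSpace X₃ := quasiSeparatedSpace_of_quasiSeparated x₃
  have d9 : CompactSpace Y₃ := QuasiCompact.compactSpace_of_compactSpace y₃
  have d10 : QuasiSeparatedSpace Y₃ := quasiSeparatedSpace_of_quasiSeparated y₃
  have d3' : LocallyOfFinitePresentation (Y := (specDiagram A).obj (op C)) x₃ := d3
  have d4' : LocallyOfFinitePresentation (Y := (specDiagram A).obj (op C)) y₃ := d4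
  obtain ⟨j, φ, fj, sX, sY, g1, g2, g3, g4, g5, g6⟩ := S9218.result (specDiagram A) (specCone A) (isLimitSpecCone A)
    (op C) (Xi := X₃) (Yi := Y₃) x₃ y₃ qX D.lam HX qY D.mu HY D.f D.w
  let ψ : (specDiagram A).obj j ⟶ (specDiagram A).obj (op C) := (specDiagram A).map φ
  let R : CommRingCat.{u} := CommRingCat.of j.unop.1
  have hR : IsNoetherianRing R := inferInstanceAs (IsNoetherianRing j.unop.1)
  let D₀ : Dat (Spec R) :=
    { X := pullback (Z := (specDiagram A).obj (op C)) x₃ ψ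
      Y := pullback (Z := (specDiagram A).obj (op C)) y₃ ψ
      lam := pullback.snd _ _
      mu := pullback.snd _ _
      f := fj
      w := g1
      F := (Scheme.Modules.pullback (pullback.fst _ _)).obj F₃ }
  have hc : (specCone A).π.app j ≫ ψ = (specCone A).π.app (op C) := (specCone A).w φ
  have HX₀ : IsPullback (pullback.fst (Z := (specDiagram A).obj (op C)) x₃ ψ) D₀.lam x₃ ψ :=
    IsPullback.of_hasPullback _ _
  have HY₀ : IsPullback (pullback.fst (Z := (specDiagram A).obj (op C)) y₃ ψ) D₀.mu y₃ ψ :=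
    IsPullback.of_hasPullback _ _
  refine ⟨R, hR, (specCone A).π.app j, D₀, ?_, ?_, ⟨?_⟩⟩
  · exact
      { pl := MorphismProperty.of_isPullback HX₀ d1
        pm := MorphismProperty.of_isPullback HY₀ d2
        q := FormalA.PullbackQC.isQCoh_pullback _ _ (PerfC.FPSections.isQCoh_of_isFP d5)
        fl := fun z => Fdesc.FlatBC.isFlatOverAt_pullback HX₀ F₃ z (d6 _) }
  · exact
      { pm := MorphismProperty.of_isPullback HY₀ d4
        fp := FormalA.PullbackQC.isFP_pullback _ _ d5 }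
  · have k1 : IsPullback sX D.lam D₀.lam ((specCone A).π.app j) := of_right_aux hc HX g2 g3
    have k2 : IsPullback sY D.mu D₀.mu ((specCone A).π.app j) := of_right_aux hc HY g4 g5
    exact
      { pX := sX
        pY := sY
        HX := k1
        HY := k2
        hc := g6.symm
        e := (Scheme.Modules.pullbackComp _ _).app F₃ ≪≫ (Scheme.Modules.pullbackCongr g2).app F₃ ≪≫
          (Scheme.Modules.pullbackComp _ _).app F₁ ≪≫ (Scheme.Modules.pullbackCongr hqX).app F₁ ≪≫ e1 }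

end K116.Dat
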