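import Groth.Agent.FlatMor.K116.Dat

/-!
# Base change and flatness of higher direct images, general bases

* `BC.flat_iff`: if `R^j f_* F` is flat over `S` for `j > n`, then `R^n f'_* F'` is flat over `T` iff the pullback of
  `R^n f_* F` is;
* `P D n`: the predicate on `T ⟶ S`: `R^j f_{T*} F_T` is flat over `T` for `j ≥ n`; `etSheafPred_P`.
-/

set_option autoImplicit false
universe u

open CategoryTheory CategoryTheory.Limits AlgebraicGeometry
open Groth.Agent Groth.Agent.Flat2B.RepPred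

namespace K116.Dat

variable {S T : Scheme.{u}} {t : T ⟶ S} {D' : Dat T} {D : Dat S}

namespace BC

theorem flat_iff_affine [IsAffine S] [IsAffine T] (b : BC t D' D) (h : D.Good) (n : ℕ)
    (hj : ∀ j, n < j → D.FlatR j) :
    D'.FlatR n ↔ FlatMod.IsFlatOver D'.mu ((Scheme.Modules.pullback b.pY).obj (D.R n)) := by
  have h1 := h.pf
  have h2 := (b.good h).pf
  have h3 := h.pl
  exact CohLoc.flat_iff D.w D'.w b.HX b.HY b.hc D.F h.q h.fl D'.F b.e n hj

/-- An affine neighbourhood of a morphism of schemes. -/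
theorem exists_affine_square (t : T ⟶ S) (x : T) :
    ∃ (A A' : CommRingCat.{u}) (u : Spec A ⟶ S) (v : Spec A' ⟶ T) (r : Spec A' ⟶ Spec A), IsOpenImmersion u ∧
      IsOpenImmersion v ∧ x ∈ Set.range v ∧ v ≫ t = r ≫ u := by
  obtain ⟨A, u, hu, z, hz⟩ := Flat2B.AlgPred.exists_affine_nhd S (t x)
  obtain ⟨y, hy, -⟩ := Scheme.Pullback.exists_preimage_pullback (f := t) (g := u) x z hz.symm
  obtain ⟨A', v, hv, y', hy'⟩ := Flat2B.AlgPred.exists_affine_nhd (pullback t u) y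
  refine ⟨A, A', u, v ≫ pullback.fst t u, v ≫ pullback.snd t u, hu, inferInstance, ⟨y', ?_⟩, ?_⟩
  · rw [Scheme.Hom.comp_apply, hy', hy]
  · rw [Category.assoc, Category.assoc, pullback.condition]

/-- The comparison of the two pullbacks. -/
theorem nonempty_pull_iso {U U' : Scheme.{u}} {u : U ⟶ S} {v : U' ⟶ T} {r : U' ⟶ U} [Flat u] (b : BC t D' D)
    (h : D.Good) {Du : Dat U} {Dv : Dat U'} (bu : BC u Du D) (bv : BC v Dv D') (br : BC r Dv Du)
    (hp : br.pY ≫ bu.pY = bv.pY ≫ b.pY) (n : ℕ) :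
    Nonempty ((Scheme.Modules.pullback br.pY).obj (Du.R n) ≅
      (Scheme.Modules.pullback bv.pY).obj ((Scheme.Modules.pullback b.pY).obj (D.R n))) := by
  obtain ⟨e⟩ := bu.nonempty_iso h n
  exact ⟨(Scheme.Modules.pullback br.pY).mapIso e.symm ≪≫ (Scheme.Modules.pullbackComp _ _).app _ ≪≫
    (Scheme.Modules.pullbackCongr hp).app _ ≪≫ (Scheme.Modules.pullbackComp _ _).symm.app _⟩

theorem flat_iff (b : BC t D' D) (h : D.Good) (n : ℕ) (hj : ∀ j, n < j → D.FlatR j) :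
    D'.FlatR n ↔ FlatMod.IsFlatOver D'.mu ((Scheme.Modules.pullback b.pY).obj (D.R n)) := by
  have key : ∀ y : D'.Y, ∃ (A' : CommRingCat.{u}) (v : Spec A' ⟶ T) (Dv : Dat (Spec A')) (bv : BC v Dv D')
      (y' : Dv.Y), IsOpenImmersion v ∧ bv.pY.base y' = y ∧
      (Dv.FlatR n ↔ FlatMod.IsFlatOver Dv.mu
        ((Scheme.Modules.pullback bv.pY).obj ((Scheme.Modules.pullback b.pY).obj (D.R n)))) := by
    intro y
    obtain ⟨A, A', u, v, r, hu, hv, ⟨x, hx⟩, hsq⟩ := exists_affine_square t (D'.mu y)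
    obtain ⟨y', hy', -⟩ := Scheme.Pullback.exists_preimage_pullback (f := D'.mu) (g := v) y x hx.symm
    let bu := D.bcBC u
    let bv := D'.bcBC v
    let b' : BC (r ≫ u) (D'.bc v) D := (b.comp bv).cast hsq
    let br : BC r (D'.bc v) (D.bc u) := bu.cancel b'
    have hp : br.pY ≫ bu.pY = bv.pY ≫ b.pY := bu.cancel_pY b'
    refine ⟨A', v, D'.bc v, bv, y', hv, hy', ?_⟩
    rw [br.flat_iff_affine (bu.good h) n (fun j hjn z => (bu.flatAt_iff h j z).2 (hj j hjn _))]
    obtain ⟨e⟩ := nonempty_pull_iso b h bu bv br hp n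
    exact ⟨fun h1 z => Models2.FlatIso.isFlatOverAt_of_iso _ e z (h1 z),
      fun h1 z => Models2.FlatIso.isFlatOverAt_of_iso _ e.symm z (h1 z)⟩
  constructor
  · intro h1 y
    obtain ⟨A', v, Dv, bv, y', hv, rfl, hiff⟩ := key y
    exact Fdesc.FlatBC.isFlatOverAt_of_pullback bv.HY _ y'
      (hiff.1 (fun z => (bv.flatAt_iff (b.good h) n z).2 (h1 _)) y')
  · intro h1 y
    obtain ⟨A', v, Dv, bv, y', hv, rfl, hiff⟩ := key y
    refine (bv.flatAt_iff (b.good h) n y').1 (hiff.2 (fun z => ?_) y')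
    exact Fdesc.FlatBC.isFlatOverAt_pullback bv.HY _ z (h1 _)

/-- Stability under base change. -/
theorem flatGE (b : BC t D' D) (h : D.Good) (n : ℕ) (hj : ∀ j, n ≤ j → D.FlatR j) (j : ℕ) (hnj : n ≤ j) :
    D'.FlatR j :=
  (b.flat_iff h j fun k hk => hj k (hnj.trans hk.le)).2 fun y =>
    Fdesc.FlatBC.isFlatOverAt_pullback b.HY _ y (hj j hnj _)

end BC

/-- `R^j f_{T*} F_T` is flat over `T` for `j ≥ n`. -/
def P (D : Dat S) (n : ℕ) (T : Scheme.{u}) (t : T ⟶ S) : Prop := ∀ j, n ≤ j → (D.bc t).FlatR j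

theorem BC.p_iff (b : BC t D' D) (h : D.Good) (n : ℕ) : D.P n T t ↔ ∀ j, n ≤ j → D'.FlatR j := by
  let b1 : BC (𝟙 T) D' (D.bc t) := (D.bcBC t).cancel (b.cast (Category.id_comp t).symm)
  let b2 : BC (𝟙 T) (D.bc t) D' := b.cancel ((D.bcBC t).cast (Category.id_comp t).symm)
  exact ⟨fun h1 j hj => b1.flatGE ((D.bcBC t).good h) n h1 j hj, fun h1 j hj => b2.flatGE (b.good h) n h1 j hj⟩

theorem etSheafPred_P (h : D.Good) (n : ℕ) : EtSheafPred (D.P n) where
  map T T' g t hT := by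
    let b : BC g (D.bc (g ≫ t)) (D.bc t) := (D.bcBC t).cancel (D.bcBC (g ≫ t))
    exact fun j hj => b.flatGE ((D.bcBC t).good h) n hT j hj
  desc T t ι U g hg hcov hU j hj y := by
    obtain ⟨i, x, hx⟩ := hcov ((D.bc t).mu y)
    have := hg i
    let b : BC (g i) ((D.bc t).bc (g i)) (D.bc t) := (D.bc t).bcBC (g i)
    obtain ⟨y', hy', -⟩ := Scheme.Pullback.exists_preimage_pullback (f := (D.bc t).mu) (g := g i) y x hx.symm
    have h1 : ((D.bc t).bc (g i)).FlatR j :=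
      (((D.bcBC t).comp b).p_iff h n).1 (hU i) j hj
    have h2 := (b.flatAt_iff ((D.bcBC t).good h) j y').1 (h1 y')
    have h3 : b.pY.base y' = y := hy'
    rwa [h3] at h2

theorem exists_large [IsAffine S] (h : D.Good) : ∃ N : ℕ, ∀ n, N ≤ n → D.FlatR n := by
  have h1 := h.pf
  have h2 := h.pm
  have h3 : CompactSpace D.Y := QuasiCompact.compactSpace_of_compactSpace D.mu
  exact CohLoc.exists_large D.w D.F h.q

end K116.Dat
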