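import Groth.Agent.FlatMor.K116.DatApprox

/-!
# Representability of "the `R^j f_* F`, `j ≥ n`, are flat over the base"
-/

set_option autoImplicit false
universe u

open CategoryTheory CategoryTheory.Limits AlgebraicGeometry
open Groth.Agent Groth.Agent.Flat2B.RepPred

namespace K116.Dat

variable {S : Scheme.{u}}

theorem BC.p_comp_iff {S T : Scheme.{u}} {s : T ⟶ S} {D' : Dat T} {D : Dat S} (b : BC s D' D) (h : D.Good) (n : ℕ)
    (U : Scheme.{u}) (t : U ⟶ T) : D.P n U (t ≫ s) ↔ D'.P n U t :=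
  (b.comp (D'.bcBC t)).p_iff h n

theorem BC.repOver_comp {S T U : Scheme.{u}} {s : T ⟶ S} {D' : Dat T} {D : Dat S} (b : BC s D' D) (h : D.Good) (n : ℕ)
    (x : U ⟶ T) (hr : RepOver (D'.P n) x) : RepOver (D.P n) (x ≫ s) := by
  obtain ⟨Z, i, h1, h2, h3, h4⟩ := hr
  refine ⟨Z, i, h1, h2, h3, fun V t => ?_⟩
  rw [← Category.assoc, b.p_comp_iff h n, h4]

theorem BC.repOver_of_comp {S T U : Scheme.{u}} {s : T ⟶ S} {D' : Dat T} {D : Dat S} (b : BC s D' D) (h : D.Good) (n : ℕ)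
    (x : U ⟶ T) (hr : RepOver (D.P n) (x ≫ s)) : RepOver (D'.P n) x := by
  obtain ⟨Z, i, h1, h2, h3, h4⟩ := hr
  refine ⟨Z, i, h1, h2, h3, fun V t => ?_⟩
  rw [← b.p_comp_iff h n, Category.assoc, h4]

theorem repOver_spec {A : Type u} [CommRing A] (D : Dat (Spec (CommRingCat.of A))) (h : D.Good) (h' : D.Fp)
    (hl : LocallyOfFinitePresentation D.lam) (n : ℕ) : RepOver (D.P n) (𝟙 _) := by
  obtain ⟨R, _, s, D₀, h1, h2, ⟨b⟩⟩ := exists_model D h h' hl
  refine b.repOver_of_comp h1 n (𝟙 _) ?_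
  have h3 := (repOver_affine_noetherian D₀ h1 h2 n).comp s
  rw [Category.comp_id] at h3
  rwa [Category.id_comp]

theorem repOver_isAffine [IsAffine S] (D : Dat S) (h : D.Good) (h' : D.Fp)
    (hl : LocallyOfFinitePresentation D.lam) (n : ℕ) : RepOver (D.P n) (𝟙 S) := by
  let b := D.bcBC S.isoSpec.inv
  have hl' : LocallyOfFinitePresentation (D.bc S.isoSpec.inv).lam :=
    MorphismProperty.of_isPullback b.HX hl
  have h1 := b.repOver_comp h n (𝟙 _) (repOver_spec (A := Γ(S, ⊤)) (D.bc S.isoSpec.inv) (b.good h) (b.fp h') hl' n)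
  have h2 := h1.comp S.isoSpec.hom
  rwa [Category.id_comp, Iso.hom_inv_id] at h2

theorem repOver (D : Dat S) (h : D.Good) (h' : D.Fp) (hl : LocallyOfFinitePresentation D.lam) (n : ℕ) :
    RepOver (D.P n) (𝟙 S) := by
  refine GlueRep.repOver_of_cover (etSheafPred_P h n) S.affineCover fun i => ?_
  let b := D.bcBC (S.affineCover.f i)
  have hl' : LocallyOfFinitePresentation (D.bc (S.affineCover.f i)).lam :=
    MorphismProperty.of_isPullback b.HX hl
  have h1 := b.repOver_comp h n (𝟙 _) (repOver_isAffine (D.bc (S.affineCover.f i)) (b.good h) (b.fp h') hl' n)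
  rwa [Category.id_comp] at h1

theorem exists_mono (D : Dat S) (h : D.Good) (h' : D.Fp) (hl : LocallyOfFinitePresentation D.lam) (n : ℕ) :
    ∃ (S' : Scheme.{u}) (ι : S' ⟶ S), Mono ι ∧ LocallyOfFinitePresentation ι ∧ QuasiCompact ι ∧ Surjective ι ∧
      ∀ (T : Scheme.{u}) (t : T ⟶ S), D.P n T t ↔ ∃ t' : T ⟶ S', t' ≫ ι = t := by
  obtain ⟨S', ι, h1, h2, h3, h4⟩ := repOver D h h' hl n
  have h5 : ∀ (T : Scheme.{u}) (t : T ⟶ S), D.P n T t ↔ ∃ t' : T ⟶ S', t' ≫ ι = t := fun T t => by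
    rw [← h4, Category.comp_id]
  exact ⟨S', ι, h1, h2, h3, PropMain.surjective_of_field ι fun s =>
    (h5 _ _).1 fun _ _ => PropMain.flat_over_field _ _, h5⟩

/-- The form of the milestone. -/
theorem exists_mono' {X Y S : Scheme.{u}} (lam : X ⟶ S) (mu : Y ⟶ S)
    [IsProper lam] [LocallyOfFinitePresentation lam] [IsProper mu] [LocallyOfFinitePresentation mu]
    (f : X ⟶ Y) (hf : f ≫ mu = lam) (F : X.Modules) (hF : CohB1.IsFP F) (hFfl : FlatMod.IsFlatOver lam F) (n : ℕ) :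
    ∃ (S' : Scheme.{u}) (ι : S' ⟶ S), Mono ι ∧ LocallyOfFinitePresentation ι ∧ QuasiCompact ι ∧ Surjective ι ∧
      ∀ (T : Scheme.{u}) (t : T ⟶ S) (fT : pullback lam t ⟶ pullback mu t),
        fT ≫ pullback.fst mu t = pullback.fst lam t ≫ f → fT ≫ pullback.snd mu t = pullback.snd lam t →
        ∀ [HasInjectiveResolutions (pullback lam t).Modules],
          ((∀ i : ℕ, n ≤ i → FlatMod.IsFlatOver (pullback.snd mu t)
              ((Coh.Rpush fT i).obj ((Scheme.Modules.pullback (pullback.fst lam t)).obj F))) ↔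
            ∃ t' : T ⟶ S', t' ≫ ι = t) := by
  let D : Dat S := { X := X, Y := Y, lam := lam, mu := mu, f := f, w := hf, F := F }
  have hD : D.Good := ⟨inferInstanceAs (IsProper lam), inferInstanceAs (IsProper mu),
    PerfC.FPSections.isQCoh_of_isFP hF, hFfl⟩
  have hD' : D.Fp := ⟨inferInstanceAs (LocallyOfFinitePresentation mu), hF⟩
  obtain ⟨S', ι, h1, h2, h3, h4, h5⟩ := exists_mono D hD hD' (inferInstanceAs (LocallyOfFinitePresentation lam)) n
  refine ⟨S', ι, h1, h2, h3, h4, fun T t fT hf1 hf2 _ => ?_⟩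
  rw [← h5]
  have hfT : fT = (D.bc t).f := by
    refine pullback.hom_ext ?_ ?_
    · exact hf1.trans (pullback.lift_fst _ _ _).symm
    · exact hf2.trans (pullback.lift_snd _ _ _).symm
  subst hfT
  rfl

end K116.Dat
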