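import Groth.Agent.FlatMor.K116.DatBC
import Groth.Agent.S0036
import Groth.Agent.Models2.FPCoh
import Groth.Agent.CohqA.FinSec

/-!
# Representability of "the `R^j f_* F`, `j ≥ n`, are flat over the base": Noetherian case
-/

set_option autoImplicit false
universe u

open CategoryTheory CategoryTheory.Limits AlgebraicGeometry
open Groth.Agent Groth.Agent.Flat2B.RepPred

namespace K116.Dat

open K116.FlatQ

theorem isFP_of_isCoh {X : Scheme.{u}} [IsLocallyNoetherian X] {M : X.Modules} (h : Coh.IsCoh M) : CohB1.IsFP M := by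
  refine CohqA.FinSec.isFP_of_finitePresentation h.1 fun x => ?_
  obtain ⟨U, hU, hx, -⟩ := exists_isAffineOpen_mem_and_subset (U := (⊤ : X.Opens)) (x := x) trivial
  refine ⟨U, hU, hx, ?_⟩
  have : IsNoetherianRing Γ(X, U) := IsLocallyNoetherian.component_noetherian ⟨U, hU⟩
  have := CohqA.FinSec.finite_sections hU h.1 h.2
  exact Module.finitePresentation_of_finite _ _

/-- The finiteness hypotheses. -/
structure Fp {S : Scheme.{u}} (D : Dat S) : Prop where
  pm : LocallyOfFinitePresentation D.mu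
  fp : CohB1.IsFP D.F

theorem BC.fp {S T : Scheme.{u}} {t : T ⟶ S} {D' : Dat T} {D : Dat S} (b : BC t D' D) (h : D.Fp) : D'.Fp where
  pm := by
    have := h.pm
    exact MorphismProperty.of_isPullback b.HY this
  fp := by
    have h1 := FormalA.PullbackQC.isFP_pullback b.pX D.F h.fp
    exact PerfC.FPSections.isFP_of_iso b.e h1

theorem BC.p_iff_q {S T : Scheme.{u}} {t : T ⟶ S} {D' : Dat T} {D : Dat S} (b : BC t D' D) (h : D.Good) (n : ℕ)
    (hj : ∀ j, n < j → D.FlatR j) : D'.FlatR n ↔ Q D.mu (D.R n) T t := by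
  rw [q_iff b.HY]
  exact b.flat_iff h n hj

theorem step {S : Scheme.{u}} [IsLocallyNoetherian S] (D : Dat S) (h : D.Good) (h' : D.Fp) (n : ℕ)
    (ih : RepOver (D.P (n + 1)) (𝟙 S)) : RepOver (D.P n) (𝟙 S) := by
  obtain ⟨Z, i, _, _, _, hZ⟩ := ih
  have hZ' : ∀ (T : Scheme.{u}) (t : T ⟶ S), D.P (n + 1) T t ↔ ∃ g, g ≫ i = t := fun T t => by
    rw [← hZ, Category.comp_id]
  have hPZ : D.P (n + 1) Z i := (hZ' _ _).2 ⟨𝟙 _, Category.id_comp _⟩
  have hn : IsLocallyNoetherian Z := LocallyOfFiniteType.isLocallyNoetherian i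
  let DZ : Dat Z := D.bc i
  have hg : DZ.Good := (D.bcBC i).good h
  have hf : DZ.Fp := (D.bcBC i).fp h'
  have h1 := hg.pl
  have h2 := hg.pm
  have h3 := hf.pm
  have h4 := hg.pf
  have hnY : IsLocallyNoetherian DZ.Y := LocallyOfFiniteType.isLocallyNoetherian DZ.mu
  have hcoh : Coh.IsCoh (DZ.R n) := S0036.result DZ.f DZ.F (Models2.FPCoh.isCoh_of_isFP hf.fp) n
  obtain ⟨Z', i', _, _, _, hZ2⟩ := PropMain.repOver DZ.mu (isFP_of_isCoh hcoh)
  have hZ2' : ∀ (T : Scheme.{u}) (t : T ⟶ Z), Q DZ.mu (DZ.R n) T t ↔ ∃ g, g ≫ i' = t := fun T t => by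
    rw [← hZ2, Category.comp_id]
  have key : ∀ (T : Scheme.{u}) (g₀ : T ⟶ Z), D.P n T (g₀ ≫ i) ↔ Q DZ.mu (DZ.R n) T g₀ := by
    intro T g₀
    let b : BC g₀ (D.bc (g₀ ≫ i)) DZ := (D.bcBC i).cancel (D.bcBC (g₀ ≫ i))
    rw [← b.p_iff_q hg n fun j hj => hPZ j hj]
    have h5 : D.P (n + 1) T (g₀ ≫ i) := (hZ' _ _).2 ⟨g₀, rfl⟩
    refine ⟨fun h6 => h6 n le_rfl, fun h6 j hj => ?_⟩
    rcases hj.eq_or_lt with rfl | hj
    · exact h6
    · exact h5 j hj
  refine ⟨Z', i' ≫ i, mono_comp _ _, inferInstance, inferInstance, fun T t => ?_⟩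
  rw [Category.comp_id]
  constructor
  · intro h6
    obtain ⟨g₀, rfl⟩ := (hZ' T t).1 fun j hj => h6 j (by omega)
    obtain ⟨g, rfl⟩ := (hZ2' T g₀).1 ((key T g₀).1 h6)
    exact ⟨g, (Category.assoc _ _ _).symm⟩
  · rintro ⟨g, rfl⟩
    rw [← Category.assoc]
    exact (key T (g ≫ i')).2 ((hZ2' _ _).2 ⟨g, rfl⟩)

theorem repOver_affine_noetherian {S : Scheme.{u}} [IsAffine S] [IsLocallyNoetherian S] (D : Dat S) (h : D.Good)
    (h' : D.Fp) (n : ℕ) : RepOver (D.P n) (𝟙 S) := by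
  obtain ⟨N, hN⟩ := exists_large h
  have hlarge : ∀ n ≥ N, RepOver (D.P n) (𝟙 S) := fun n hn =>
    repOver_true fun T g j hj => (D.bcBC _).flatGE h n (fun k hk => hN k (hn.trans hk)) j hj
  rcases le_total N n with h1 | h1
  · exact hlarge n h1
  · exact Nat.decreasingInduction (motive := fun k _ => RepOver (D.P k) (𝟙 _))
      (fun k _ ih => step D h h' k ih) (hlarge N le_rfl) h1

end K116.Dat
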