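import Groth.Agent.Dual3.K478.PcBC

/-!
# A map in `D_QCoh` of a fibre product is an isomorphism if all its twisted direct images are

Cartesian square `X' = X ×_Y Y'` of quasi-compact quasi-separated schemes, `c : K ⟶ K'` in `D_QCoh(O_X')`.  If
`Rf'_*(c ⊗ Lg'^* E)` is an isomorphism for all perfect `E` on `X`, then `c` is an isomorphism.
-/

set_option autoImplicit false

open CategoryTheory Limits MonoidalCategory AlgebraicGeometry

universe u

attribute [local instance] HasDerivedCategory.standard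

namespace K116.FinPerf

open Groth.Agent Groth.Agent.Dcoh Groth.Agent.Dual.H307.Main Groth.Agent.Dual.H308
open scoped Groth.Agent.Dcoh.MonCat Groth.Agent.Dcoh.ModD

section Abs

variable {C D : Type*} [Category C] [Category D] [MonoidalCategory C]

/-- `Hom(L Q ⊗ A, c)` is bijective if `R (c ⊗ A')` is an isomorphism. -/
theorem bijective_comp {L : D ⥤ C} {R : C ⥤ D} (adj : L ⊣ R) (Q : D) (A A' : C) [ExactPairing A A']
    {K K' : C} (c : K ⟶ K') [IsIso (R.map (c ▷ A'))] :
    Function.Bijective (fun g : L.obj Q ⊗ A ⟶ K => g ≫ c) := by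
  let e (M : C) : (L.obj Q ⊗ A ⟶ M) ≃ (Q ⟶ R.obj (M ⊗ A')) :=
    ((tensorRightAdjunction A A').homEquiv (L.obj Q) M).trans (adj.homEquiv Q (M ⊗ A'))
  have h : (fun g : L.obj Q ⊗ A ⟶ K => g ≫ c) =
      (e K').symm ∘ (fun x : Q ⟶ R.obj (K ⊗ A') => x ≫ R.map (c ▷ A')) ∘ (e K) := by
    funext g
    apply (e K').injective
    simp only [Function.comp_apply, Equiv.apply_symm_apply]
    have h1 : ((tensorRightAdjunction A A').homEquiv (L.obj Q) K') (g ≫ c) =
        ((tensorRightAdjunction A A').homEquiv (L.obj Q) K) g ≫ c ▷ A' :=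
      (tensorRightAdjunction A A').homEquiv_naturality_right g c
    show (adj.homEquiv Q (K' ⊗ A')) (((tensorRightAdjunction A A').homEquiv (L.obj Q) K') (g ≫ c)) =
      (adj.homEquiv Q (K ⊗ A')) (((tensorRightAdjunction A A').homEquiv (L.obj Q) K) g) ≫ R.map (c ▷ A')
    rw [h1]
    exact adj.homEquiv_naturality_right _ _
  rw [h]
  refine (e K').symm.bijective.comp (Function.Bijective.comp ?_ (e K).bijective)
  exact ((asIso (R.map (c ▷ A'))).homToEquiv (Z := Q)).bijective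

end Abs

variable {X Y X' Y' : Scheme.{u}} {f : X ⟶ Y} {g : Y' ⟶ Y} {f' : X' ⟶ Y'} {g' : X' ⟶ X}

/-- **Isomorphisms in `D_QCoh` of a fibre product can be tested on twisted direct images.** -/
theorem isIso_of_perfect [CompactSpace X] [QuasiSeparatedSpace X] [CompactSpace X'] [QuasiSeparatedSpace X']
    [QuasiSeparatedSpace Y] [CompactSpace Y'] [QuasiSeparatedSpace Y'] [DCoh.HasRpush f'] [DCoh.HasLpull g']
    (hsq : IsPullback g' f' f g) {K K' : DCoh.D X'} (hK : DCoh.IsQCohD K) (hK' : DCoh.IsQCohD K') (c : K ⟶ K')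
    (H : ∀ E : DCoh.D X, DCoh.IsPerfect E → IsIso ((DCoh.Rpush f').map (c ▷ (DCoh.Lpull g').obj E))) :
    IsIso c := by
  have := DerPull.hasLpull f'
  let _ := MonPull.monPull g'
  let _ := MonLpull182.lpullMonoidal g'
  refine Groth.Agent.Dual.H355.GenUniv.isIso_of_generators DCoh.IsQCohD
    (fun N => ∃ (P : DCoh.D X) (Q : DCoh.D Y'), DCoh.IsPerfect P ∧ DCoh.IsPerfect Q ∧
      Nonempty (N ≅ (DCoh.Lpull f').obj Q ⊗ (DCoh.Lpull g').obj P)) ?_ ?_ hK hK' c ?_
  · rintro N ⟨P, Q, hP, hQ, ⟨e⟩⟩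
    obtain ⟨e1⟩ := nonempty_tensor_shift ((DCoh.Lpull f').obj Q) ((DCoh.Lpull g').obj P) (-1)
    obtain ⟨e2⟩ := nonempty_lpull_shift f' Q (-1)
    exact ⟨P, Q⟦(-1 : ℤ)⟧, hP, PerfA.PerfLocal.isPerfect_shift hQ (-1),
      ⟨(shiftFunctor (DCoh.D X') (-1)).mapIso e ≪≫ e1 ≪≫ whiskerRightIso e2 _⟩⟩
  · intro M hM hM'
    exact GenProd.isZero_of_forall' hsq M hM fun P Q hP hQ φ => hM' _ ⟨P, Q, hP, hQ, ⟨Iso.refl _⟩⟩ φ
  · rintro N ⟨P, Q, hP, hQ, ⟨e⟩⟩
    obtain ⟨P', hP', ⟨hp⟩⟩ := PerfDual.exists_exactPairing P hP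
    let _ : ExactPairing ((DCoh.Lpull g').obj P) ((DCoh.Lpull g').obj P') :=
      DualMap.mapPairing (DCoh.Lpull g') P P'
    have := H P' hP'
    have h1 := bijective_comp (DerPull.lpullAdj f') Q ((DCoh.Lpull g').obj P) ((DCoh.Lpull g').obj P') c
    have h2 : Function.Bijective (fun g : N ⟶ K => e.inv ≫ g) := (e.homFromEquiv (Z := K)).bijective
    have h3 : Function.Bijective (fun x : (DCoh.Lpull f').obj Q ⊗ (DCoh.Lpull g').obj P ⟶ K' => e.hom ≫ x) :=
      (e.symm.homFromEquiv (Z := K')).bijective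
    convert h3.comp (h1.comp h2) using 1
    funext x
    simp

/-- The form over affine bases. -/
theorem fin {A B : Type u} [CommRing A] [CommRing B] (φ : A →+* B) {X X' : Scheme.{u}}
    (f : X ⟶ Spec (CommRingCat.of A)) (g : X' ⟶ Spec (CommRingCat.of B)) (j : X' ⟶ X)
    [QuasiCompact f] [QuasiSeparated f] [DCoh.HasRpush g] [DCoh.HasLpull j]
    (hsq : IsPullback j g f (Spec.map (CommRingCat.ofHom φ))) {K K' : DCoh.D X'} (hK : DCoh.IsQCohD K)
    (hK' : DCoh.IsQCohD K') (c : K ⟶ K')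
    (H : ∀ E : DCoh.D X, DCoh.IsPerfect E → IsIso ((DCoh.Rpush g).map (c ▷ (DCoh.Lpull j).obj E))) :
    IsIso c := by
  have h1 : QuasiCompact g := MorphismProperty.of_isPullback hsq inferInstance
  have h2 : QuasiSeparated g := MorphismProperty.of_isPullback hsq inferInstance
  have := isCompact_univ_iff.1 (QuasiCompact.isCompact_preimage (f := f) _ isOpen_univ isCompact_univ)
  have := isCompact_univ_iff.1 (QuasiCompact.isCompact_preimage (f := g) _ isOpen_univ isCompact_univ)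
  have : QuasiSeparatedSpace X := quasiSeparatedSpace_of_quasiSeparated f
  have : QuasiSeparatedSpace X' := quasiSeparatedSpace_of_quasiSeparated g
  exact isIso_of_perfect hsq hK hK' c H

end K116.FinPerf
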