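import Groth.Agent.Ega3B.Master
import Groth.Agent.CurvesB.GenMaster
import Groth.Agent.S2407
import Groth.Agent.S0016

/-!
# The flat complex computing the cohomology of a flat quasi-coherent module, and base change of the lowest degree

* `exists_flat_complex`: `X` separated and quasi-compact over `Spec A`, `F` quasi-coherent and flat over `A`:
  `H^p(X, F ⊗ M) = H_{-p}(P ⊗ M)` for a complex `P` of flat modules;
* `bck`: if `H^j(X, F)` is flat for `j > n` then `H^n` commutes with base change.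
-/

set_option autoImplicit false
universe u

open CategoryTheory CategoryTheory.Limits AlgebraicGeometry TensorProduct MonoidalCategory
open Groth.Agent Groth.Agent.Ega3B Groth.Agent.Ega3B.MasterAsm Groth.Agent.Ega3B.EWatts Groth.Agent.Ega3B.CechFun
  Groth.Agent.Ega3B.AbsMaster

namespace K116.FlatCx

/-- The flat complex of `M ↦ H^p(X, F ⊗ M)`. -/
theorem exists_flat_complex {A : Type u} [CommRing A] (X : Scheme.{u}) [X.Over (Spec (CommRingCat.of A))]
    [CompactSpace X] [IsSeparated (X ↘ Spec (CommRingCat.of A))] (F : X.Modules) (hF : Coh.IsQCoh F)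
    (hfl : FlatMod.IsFlatOver (X ↘ Spec (CommRingCat.of A)) F) :
    ∃ P : ChainComplex (ModuleCat.{u} A) ℤ, (∀ i, Module.Flat A (P.X i)) ∧
      (∃ b : ℤ, ∀ i < b, ∀ M, IsZero ((CohIII.TFun P i).obj M)) ∧
      (∀ p : ℕ, Nonempty (TF A F p ≅ CohIII.TFun P (-(p : ℤ)) ⋙ forget₂ (ModuleCat.{u} A) AddCommGrpCat.{u})) := by
  classical
  obtain ⟨ι, _, U, hU, hcov⟩ := exists_finite_cover X
  have hU' := isAffineOpen_biInf A X U hU
  have hpi : ∀ (n : ℕ) (i : Fin (n + 1) → ι), IsAffineOpen (∏ᶜ (U ∘ i) : X.Opens) := by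
    intro n i
    rw [pi_eq_iInf]
    have h := hU' (Finset.univ.image i) (Finset.univ_nonempty.image i)
    have e : (⨅ j ∈ Finset.univ.image i, U j) = ⨅ a, U (i a) := by
      rw [Finset.iInf_finset_image]
      simp
    rwa [e] at h
  have hQS : QuasiSeparatedSpace X := quasiSeparatedSpace_of_quasiSeparated (X ↘ Spec (CommRingCat.of A))
  let G : ModuleCat.{u} A ⥤ ((X.Opens)ᵒᵖ ⥤ AddCommGrpCat.{u}) := CohIII.tensorAFunctor A F ⋙ toPre X
  let Ψ : ModuleCat.{u} A ⥤ ChainComplex AddCommGrpCat.{u} ℤ := ext (cechFun U G)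
  have hcol : ∀ j, PreservesColimits (Ψ ⋙ HomologicalComplex.eval _ _ j) :=
    preservesColimits_ext_eval (cechFun U G) (preservesColimits_cechFun_eval U G
      (fun n i => TensorASec.preservesColimits_secFun F hF (hpi n i)))
  let P₀ := liftCx Ψ (ModuleCat.of A A)
  have hflat : ∀ i, Module.Flat A (P₀.X i) := fun i =>
    flat_liftCx Ψ i (preservesMono_ext_eval (cechFun U G) (preservesMono_cechFun_eval U G
      (fun n i => TensorASec.preservesMono_secFun F hF (hpi n i) hfl)) i)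
  have hC := Master.cechHyp (A := A) X F hF
  let eT : ∀ p : ℕ, TF A F p ≅ CohIII.TFun P₀ (-(p : ℤ)) ⋙ forget₂ (ModuleCat.{u} A) AddCommGrpCat.{u} :=
    fun p => (hC ι inferInstance U hcov hU' p).some ≪≫ (extHomology (cechFun U G) p).symm ≪≫ homologyIso Ψ (-(p : ℤ))
  obtain ⟨N, hN⟩ := S0016.result X
  refine ⟨P₀, hflat, ⟨-(N : ℤ) + 1, fun i hi M => ?_⟩, fun p => ⟨eT p⟩⟩
  obtain ⟨p, rfl⟩ : ∃ p : ℕ, i = -(p : ℤ) := ⟨(-i).toNat, by omega⟩
  apply isZero_of_isZero_forget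
  have h1 : IsZero ((TF A F p).obj M) := by
    have := hN _ (isQCoh_tensorAFunctor F hF M) p (by omega)
    exact @AddCommGrpCat.isZero_of_subsingleton ((TF A F p).obj M) this
  exact IsZero.of_iso h1 ((eT p).app M).symm

section Alg

variable {A : Type u} [CommRing A] (P : ChainComplex (ModuleCat.{u} A) ℤ) (hP : ∀ i, Module.Flat A (P.X i))
  (b : ℤ) (hb : ∀ i < b, ∀ M, IsZero ((CohIII.TFun P i).obj M))

include hP hb in
theorem flat_opcycles (m : ℤ) (h : ∀ q < m, Module.Flat A ((CohIII.TFun P q).obj (ModuleCat.of A A))) (q : ℤ)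
    (hq : q < m) : Module.Flat A (P.opcycles q) := by
  by_cases hqb : q < b
  · rw [← Ega3A.TFunBasic.chain_preservesMono_iff_flat P hP]
    exact ⟨fun {M N} f _ => ⟨fun g h _ => (hb q hqb M).eq_of_tgt g h⟩⟩
  · obtain ⟨k, hk⟩ : ∃ k : ℕ, q = b - 1 + k := ⟨(q - (b - 1)).toNat, by omega⟩
    clear hqb
    induction k generalizing q with
    | zero =>
      rw [← Ega3A.TFunBasic.chain_preservesMono_iff_flat P hP]
      exact ⟨fun {M N} f _ => ⟨fun g h _ => (hb q (by omega) M).eq_of_tgt g h⟩⟩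
    | succ k ih =>
      have h1 := ih (q - 1) (by omega) (by omega)
      have h2 := hP (q - 1)
      exact (Ega3A.TFunFlat.flat_Tunit_iff_flat_opcycles P q (q - 1) (by simp)).1 (h q hq)

include hP hb in
theorem exists_iso_tensorLeft (m : ℤ)
    (h : ∀ q < m, Module.Flat A ((CohIII.TFun P q).obj (ModuleCat.of A A))) :
    ∃ N : ModuleCat.{u} A, Nonempty (CohIII.TFun P m ≅ tensorLeft N) := by
  rw [← S2407.result P hP m, Ega3A.TFunBasic.chain_preservesEpi_iff_flat P hP m (m - 1) (by ring)]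
  exact flat_opcycles P hP b hb m h (m - 1) (by omega)

end Alg

section BC

variable {A A' : Type u} [CommRing A] [CommRing A'] (φ : A →+* A')

theorem additive_res : (ModuleCat.restrictScalars.{u} φ).Additive := inferInstance

instance additive_Phi (N : ModuleCat.{u} A) : (ModuleCat.restrictScalars.{u} φ ⋙ (tensorLeft N ⋙
    forget₂ (ModuleCat.{u} A) AddCommGrpCat.{u})).Additive := inferInstance

theorem nonempty_lType_tensor (N : ModuleCat.{u} A) :
    letI := φ.toAlgebra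
    Nonempty (LType (ModuleCat.restrictScalars.{u} φ ⋙ (tensorLeft N ⋙ forget₂ (ModuleCat.{u} A) AddCommGrpCat.{u}))
      (ModuleCat.of A' A') ≃ₗ[A'] A' ⊗[A] N) := by
  let _ := φ.toAlgebra
  let Φ := ModuleCat.restrictScalars.{u} φ ⋙ (tensorLeft N ⋙ forget₂ (ModuleCat.{u} A) AddCommGrpCat.{u})
  let e : N ⊗[A] A' ≃+ A' ⊗[A] N := (TensorProduct.comm A N A').toAddEquiv
  let e' : LType Φ (ModuleCat.of A' A') ≃+ A' ⊗[A] N := (toLift Φ (ModuleCat.of A' A')).symm.trans e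
  refine ⟨{ e' with map_smul' := fun a x => ?_ }⟩
  obtain ⟨x, rfl⟩ := (toLift Φ (ModuleCat.of A' A')).surjective x
  rw [smul_toLift]
  let γ : N ⊗[A] A' →ₗ[A] N ⊗[A] A' :=
    (N ◁ ((ModuleCat.restrictScalars.{u} φ).map (a • 𝟙 (ModuleCat.of A' A')))).hom
  have key : ∀ x : N ⊗[A] A', e (γ x) = a • e x := by
    intro x
    induction x using TensorProduct.induction_on with
    | zero => rw [map_zero, map_zero, smul_zero]
    | tmul n t =>
      change (TensorProduct.comm A N A') (n ⊗ₜ[A] (a • t)) = a • ((TensorProduct.comm A N A') (n ⊗ₜ[A] t))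
      rw [TensorProduct.comm_tmul, TensorProduct.comm_tmul, TensorProduct.smul_tmul']
    | add x y hx hy => rw [map_add, map_add, hx, hy, map_add, smul_add]
  exact key x

variable {X₀ X : Scheme.{u}} [X₀.Over (Spec (CommRingCat.of A))] [X.Over (Spec (CommRingCat.of A'))]
  [CompactSpace X₀] [IsSeparated (X₀ ↘ Spec (CommRingCat.of A))] (g : X ⟶ X₀)
  (H : IsPullback g (X ↘ Spec (CommRingCat.of A')) (X₀ ↘ Spec (CommRingCat.of A)) (Spec.map (CommRingCat.ofHom φ)))

include H in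
/-- If `H^j(X, F)` is flat for `j > n` then `H^n` commutes with base change. -/
theorem bck (F₀ : X₀.Modules) (hF₀ : Coh.IsQCoh F₀) (hfl : FlatMod.IsFlatOver (X₀ ↘ Spec (CommRingCat.of A)) F₀)
    (n : ℕ) (h : ∀ j, n < j → Module.Flat A (Coh.HH X₀ F₀ j)) (F : X.Modules)
    (e : (Scheme.Modules.pullback g).obj F₀ ≅ F) :
    letI := φ.toAlgebra
    Nonempty (Coh.HH X F n ≃ₗ[A'] A' ⊗[A] Coh.HH X₀ F₀ n) := by
  let _ := φ.toAlgebra
  obtain ⟨P, hP, ⟨b, hb⟩, hiso⟩ := exists_flat_complex X₀ F₀ hF₀ hfl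
  have hHH : ∀ p : ℕ, Nonempty ((CohIII.TFun P (-(p : ℤ))).obj (ModuleCat.of A A) ≃ₗ[A] Coh.HH X₀ F₀ p) := by
    intro p
    obtain ⟨e₁⟩ := nonempty_homology_equiv (A := A) F₀ P p (hiso p)
    exact ⟨(Ega3A.TFunFlat.TunitEquiv P (-(p : ℤ))).trans e₁⟩
  have hflat : ∀ q < -(n : ℤ), Module.Flat A ((CohIII.TFun P q).obj (ModuleCat.of A A)) := by
    intro q hq
    obtain ⟨p, rfl⟩ : ∃ p : ℕ, q = -(p : ℤ) := ⟨(-q).toNat, by omega⟩
    obtain ⟨e₁⟩ := hHH p
    have := h p (by omega)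
    exact Module.Flat.of_linearEquiv e₁
  obtain ⟨N, ⟨E⟩⟩ := exists_iso_tensorLeft P hP b hb (-(n : ℤ)) hflat
  obtain ⟨e₁⟩ := hHH n
  let eN : N ≃ₗ[A] Coh.HH X₀ F₀ n :=
    (TensorProduct.rid A N).symm.trans ((E.app (ModuleCat.of A A)).symm.toLinearEquiv.trans e₁)
  obtain ⟨E'⟩ := CurvesB.GenMaster.iso_of_isPullback φ g H F₀ hF₀ F e n
  obtain ⟨E''⟩ := hiso n
  let tot : TF A' F n ≅ ModuleCat.restrictScalars.{u} φ ⋙ (tensorLeft N ⋙ forget₂ (ModuleCat.{u} A) AddCommGrpCat.{u}) :=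
    E'.symm ≪≫ Functor.isoWhiskerLeft (ModuleCat.restrictScalars.{u} φ) (E'' ≪≫ Functor.isoWhiskerRight E _)
  obtain ⟨a1⟩ := nonempty_lTypeEquivHH (A := A') X F n
  obtain ⟨a2⟩ := nonempty_lType_tensor φ N
  exact ⟨a1.symm.trans ((liftNatEquiv tot (ModuleCat.of A' A')).trans (a2.trans
    (TensorProduct.AlgebraTensorModule.congr (LinearEquiv.refl A' A') eN)))⟩

end BC

end K116.FlatCx
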