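import Groth.Agent.FlatMor.K116.Spread
import Mathlib.AlgebraicGeometry.Morphisms.UniversallyOpen
import Mathlib.AlgebraicGeometry.Morphisms.UniversallyClosed

/-!
# The topological property of a flat chart of a universally closed scheme
-/

set_option autoImplicit false
universe u

open CategoryTheory CategoryTheory.Limits AlgebraicGeometry

namespace K116.LiftP

open K116.Spread

/-- The pullback square of spectra of a pushout of rings. -/
theorem isPullback_spec (A B A' B' : Type u) [CommRing A] [CommRing B] [CommRing A'] [CommRing B'] [Algebra A B]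
    [Algebra A A'] [Algebra A B'] [Algebra B B'] [Algebra A' B'] [IsScalarTower A B B'] [IsScalarTower A A' B']
    [Algebra.IsPushout A B A' B'] :
    IsPullback (Spec.map (CommRingCat.ofHom (algebraMap B B'))) (Spec.map (CommRingCat.ofHom (algebraMap A' B')))
      (Spec.map (CommRingCat.ofHom (algebraMap A B))) (Spec.map (CommRingCat.ofHom (algebraMap A A'))) :=
  isPullback_SpecMap_of_isPushout _ _ _ _ (CommRingCat.isPushout_of_isPushout A B A' B')

theorem liftProp_of {A B D : Type u} [CommRing A] [CommRing B] [CommRing D] [Algebra A B] [Algebra A D]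
    (p1 p2 : B →ₐ[A] D) {X : Scheme.{u}} (f : X ⟶ Spec (CommRingCat.of A)) [UniversallyClosed f]
    (π : Spec (CommRingCat.of B) ⟶ X) [Flat π] [Surjective π]
    (hπ : π ≫ f = Spec.map (CommRingCat.ofHom (algebraMap A B)))
    (hD : IsPullback (Spec.map (CommRingCat.ofHom p1.toRingHom)) (Spec.map (CommRingCat.ofHom p2.toRingHom)) π π) :
    LiftProp p1 p2 := by
  intro A' BA D' _ _ _ _ _ _ _ _ _ _ _ _ _ _ _ _ q1 q2 hq1 hq2 t p' _ _ htp Q _ hQ
  let a : Spec (CommRingCat.of A') ⟶ Spec (CommRingCat.of A) := Spec.map (CommRingCat.ofHom (algebraMap A A'))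
  let b : Spec (CommRingCat.of BA) ⟶ Spec (CommRingCat.of B) := Spec.map (CommRingCat.ofHom (algebraMap B BA))
  let c : Spec (CommRingCat.of D') ⟶ Spec (CommRingCat.of D) := Spec.map (CommRingCat.ofHom (algebraMap D D'))
  let β : Spec (CommRingCat.of BA) ⟶ Spec (CommRingCat.of A') := Spec.map (CommRingCat.ofHom (algebraMap A' BA))
  let δ : Spec (CommRingCat.of D') ⟶ Spec (CommRingCat.of A') := Spec.map (CommRingCat.ofHom (algebraMap A' D'))
  have hB : IsPullback b β (π ≫ f) a := by rw [hπ]; exact isPullback_spec A B A' BA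
  have hDD : IsPullback c δ (Spec.map (CommRingCat.ofHom (algebraMap A D))) a := isPullback_spec A D A' D'
  let π' : Spec (CommRingCat.of BA) ⟶ pullback f a := pullback.lift (b ≫ π) β (by
    rw [Category.assoc]; exact hB.w)
  have hπ'1 : π' ≫ pullback.fst f a = b ≫ π := pullback.lift_fst _ _ _
  have hπ'2 : π' ≫ pullback.snd f a = β := pullback.lift_snd _ _ _
  have hsq : IsPullback π' b (pullback.fst f a) π := by
    have h2 : IsPullback (pullback.snd f a) (pullback.fst f a) a f := (IsPullback.of_hasPullback _ _).flip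
    refine IsPullback.of_right (t := h2) ?_ hπ'1
    rw [hπ'2]
    exact hB.flip
  have hfl : Flat π' := MorphismProperty.of_isPullback hsq.flip inferInstance
  have hsu : Surjective π' := MorphismProperty.of_isPullback hsq.flip inferInstance
  have hcl : IsClosedMap (pullback.snd f a) := (pullback.snd f a).isClosedMap
  let x : (pullback f a : Scheme.{u}) := π' ⟨Q, inferInstance⟩
  have hx : pullback.snd f a x = (⟨t, inferInstance⟩ : PrimeSpectrum A') := by
    change pullback.snd f a (π' _) = _
    rw [← Scheme.Hom.comp_apply, hπ'2]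
    exact PrimeSpectrum.ext hQ.over.symm
  have hsp : (pullback.snd f a x) ⤳ (⟨p', inferInstance⟩ : PrimeSpectrum A') := by
    rw [hx]
    exact (PrimeSpectrum.le_iff_specializes (⟨t, inferInstance⟩ : PrimeSpectrum A') ⟨p', inferInstance⟩).mp htp
  obtain ⟨y, hxy, hy⟩ := hcl.specializingMap hsp
  obtain ⟨u, hu⟩ := π'.surjective y
  obtain ⟨v, hv, hvx⟩ := Flat.generalizingMap (f := π') (show x ⤳ π' u by rw [hu]; exact hxy)
  obtain ⟨z, hz1, hz2⟩ := Scheme.Pullback.exists_preimage_pullback (f := π') (g := π') v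
    (⟨Q, inferInstance⟩ : PrimeSpectrum BA) hvx
  -- the map to `Spec D'`
  have e1 : (pullback.fst π' π' ≫ b) ≫ π = (pullback.snd π' π' ≫ b) ≫ π := by
    rw [Category.assoc, Category.assoc, ← hπ'1, ← Category.assoc, ← Category.assoc, pullback.condition]
  let r1 : pullback π' π' ⟶ Spec (CommRingCat.of D) := hD.lift _ _ e1
  have hr1 : r1 ≫ Spec.map (CommRingCat.ofHom p1.toRingHom) = pullback.fst π' π' ≫ b := hD.lift_fst _ _ _
  have hr2 : r1 ≫ Spec.map (CommRingCat.ofHom p2.toRingHom) = pullback.snd π' π' ≫ b := hD.lift_snd _ _ _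
  have e3 : Spec.map (CommRingCat.ofHom p1.toRingHom) ≫ Spec.map (CommRingCat.ofHom (algebraMap A B)) =
      Spec.map (CommRingCat.ofHom (algebraMap A D)) := by
    rw [← Spec.map_comp, ← CommRingCat.ofHom_comp]
    congr 2
    exact p1.comp_algebraMap
  have e2 : r1 ≫ Spec.map (CommRingCat.ofHom (algebraMap A D)) = (pullback.fst π' π' ≫ β) ≫ a := by
    rw [← e3, ← Category.assoc, hr1, Category.assoc, Category.assoc]
    congr 1
    exact (isPullback_spec A B A' BA).w
  let r : pullback π' π' ⟶ Spec (CommRingCat.of D') := hDD.lift r1 (pullback.fst π' π' ≫ β) e2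
  have hrc : r ≫ c = r1 := hDD.lift_fst _ _ _
  have hrδ : r ≫ δ = pullback.fst π' π' ≫ β := hDD.lift_snd _ _ _
  have hββ : pullback.fst π' π' ≫ β = pullback.snd π' π' ≫ β := by
    rw [← hπ'2, ← Category.assoc, ← Category.assoc, pullback.condition]
  have key : ∀ (p : B →ₐ[A] D) (q : BA →ₐ[A'] D') (s : pullback π' π' ⟶ Spec (CommRingCat.of BA)),
      (∀ b, q (algebraMap B BA b) = algebraMap D D' (p b)) → r1 ≫ Spec.map (CommRingCat.ofHom p.toRingHom) = s ≫ b →
      s ≫ β = pullback.fst π' π' ≫ β → r ≫ Spec.map (CommRingCat.ofHom q.toRingHom) = s := by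
    intro p q s hpq h1 h2
    refine (isPullback_spec A B A' BA).hom_ext ?_ ?_
    · rw [Category.assoc, ← Spec.map_comp, ← CommRingCat.ofHom_comp]
      have : q.toRingHom.comp (algebraMap B BA) = (algebraMap D D').comp p.toRingHom := RingHom.ext hpq
      rw [this, CommRingCat.ofHom_comp, Spec.map_comp, ← Category.assoc]
      change (r ≫ c) ≫ _ = s ≫ b
      rw [hrc, h1]
    · rw [Category.assoc, ← Spec.map_comp, ← CommRingCat.ofHom_comp]
      have : q.toRingHom.comp (algebraMap A' BA) = algebraMap A' D' := q.comp_algebraMap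
      rw [this]
      change r ≫ δ = s ≫ β
      rw [hrδ, h2]
  have k1 := key p1 q1 _ hq1 hr1 rfl
  have k2 := key p2 q2 _ hq2 hr2 hββ.symm
  refine ⟨(r z).asIdeal, u.asIdeal, (r z).2, u.2, ⟨?_⟩, ?_, ?_⟩
  · have h1 : β u = (⟨p', inferInstance⟩ : PrimeSpectrum A') := by
      rw [← hy, ← hu, ← Scheme.Hom.comp_apply, hπ'2]
    exact (congrArg PrimeSpectrum.asIdeal h1).symm
  · have h1 : Spec.map (CommRingCat.ofHom q2.toRingHom) (r z) = (⟨Q, inferInstance⟩ : PrimeSpectrum BA) := by
      rw [← hz2, ← k2, Scheme.Hom.comp_apply]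
    exact congrArg PrimeSpectrum.asIdeal h1
  · have h1 : Spec.map (CommRingCat.ofHom q1.toRingHom) (r z) = v := by
      rw [← hz1, ← k1, Scheme.Hom.comp_apply]
    have h2 : v ⤳ u := hv
    rw [← h1] at h2
    exact (PrimeSpectrum.le_iff_specializes (Spec.map (CommRingCat.ofHom q1.toRingHom) (r z) : PrimeSpectrum BA)
      (u : PrimeSpectrum BA)).mpr h2

end K116.LiftP
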