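import Groth.Agent.FlatMor.K116.Spread
import Groth.Agent.Flat2B.LocalRep386
import Groth.Agent.S1256

/-!
# Representability of `F_n` under the spreading-out property

`main`: if `SpreadProp A B N` then `F_n` is represented by a monomorphism of finite presentation (the argument of
`Flat2B.FlatMain`, with purity replaced by `SpreadProp`).
-/

set_option autoImplicit false
universe u

open CategoryTheory CategoryTheory.Limits AlgebraicGeometry
open Groth.Agent Groth.Agent.Flat2B Groth.Agent.Flat2B.RepPred Groth.Agent.Flat2B.AlgPred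
open Groth.Agent.Flat2B.FlatFun Groth.Agent.Flat2B.FlatRep Groth.Agent.Flat2B.FlatDim
open Groth.Agent.Flat2B.FlatAssembly

namespace K116.MainRep

open K116.Spread

/-- Base change of the spreading-out property. -/
theorem changeBase {A B N A₀ B₀ N₀ : Type u} [CommRing A] [CommRing B] [Algebra A B] [AddCommGroup N] [Module B N]
    [CommRing A₀] [Algebra A A₀] [CommRing B₀] [Algebra B B₀] [Algebra A₀ B₀] [Algebra A B₀] [IsScalarTower A B B₀]
    [IsScalarTower A A₀ B₀] [Algebra.IsPushout A B A₀ B₀] [AddCommGroup N₀] [Module B₀ N₀] [Module B N₀]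
    [IsScalarTower B B₀ N₀] (f₀ : N →ₗ[B] N₀) (hf₀ : IsBaseChange B₀ f₀) (h : SpreadProp A B N) :
    SpreadProp A₀ B₀ N₀ := by
  intro A' _ _ p' _ BA NA _ _ _ _ _ _ _ _ _ _ _ fA hfA k C _ _ _ _ Nc _ _ _ _ g hC hcov
  let a1 : Algebra A A' := ((algebraMap A₀ A').comp (algebraMap A A₀)).toAlgebra
  have a2 : IsScalarTower A A₀ A' := .of_algebraMap_eq fun _ => rfl
  let a3 : Algebra B BA := ((algebraMap B₀ BA).comp (algebraMap B B₀)).toAlgebra
  have a4 : IsScalarTower B B₀ BA := .of_algebraMap_eq fun _ => rfl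
  let a5 : Algebra A BA := ((algebraMap A' BA).comp (algebraMap A A')).toAlgebra
  have a6 : IsScalarTower A A' BA := .of_algebraMap_eq fun _ => rfl
  have a7 : IsScalarTower A A₀ BA := .of_algebraMap_eq fun x => by
    rw [IsScalarTower.algebraMap_apply A₀ A' BA]; rfl
  have a8 : IsScalarTower A B₀ BA := .of_algebraMap_eq fun x => by
    rw [IsScalarTower.algebraMap_apply A A₀ BA, IsScalarTower.algebraMap_apply A₀ B₀ BA,
      ← IsScalarTower.algebraMap_apply A A₀ B₀]
  have a9 : IsScalarTower A B BA := .of_algebraMap_eq fun x => by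
    rw [IsScalarTower.algebraMap_apply A B₀ BA, IsScalarTower.algebraMap_apply A B B₀]
    rfl
  have p1 : Algebra.IsPushout A A₀ B B₀ := .symm inferInstance
  have p2 : Algebra.IsPushout A₀ A' B₀ BA := .symm inferInstance
  have p3 : Algebra.IsPushout A A' B BA :=
    (Algebra.IsPushout.comp_iff (R := A) (S := A₀) (R' := B) (S' := B₀) (T := A') (T' := BA)).2 p2
  have p4 : Algebra.IsPushout A B A' BA := p3.symm
  let m1 : Module B NA := Module.compHom NA (algebraMap B BA)
  have t1 : IsScalarTower B BA NA := .of_algebraMap_smul fun _ _ => rfl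
  have t2 : IsScalarTower B B₀ NA := .of_algebraMap_smul fun b x => by
    rw [← algebraMap_smul BA b x, IsScalarTower.algebraMap_apply B B₀ BA,
      algebraMap_smul BA (algebraMap B B₀ b) x]
  have t3 : IsScalarTower B₀ BA NA := inferInstance
  let F : N →ₗ[B] NA := (fA.restrictScalars B).comp f₀
  have hb : IsBaseChange BA F := IsBaseChange.comp hf₀ hfA
  exact h A' p' BA NA F hb k C Nc g hC hcov

/-- The étale cover of `Flat2B.UnivFlatCover`, under the spreading-out property. -/
theorem exists_etale_cover {A B : Type u} [CommRing A] [CommRing B] [Algebra A B] [Algebra.FinitePresentation A B]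
    (N : Type u) [AddCommGroup N] [Module B N] [Module.FinitePresentation B N]
    (p : Ideal A) [p.IsPrime] (hsp : SpreadProp A B N) :
    ∃ (A' : Type u) (_ : CommRing A') (_ : Algebra A A') (p' : Ideal A') (_ : p'.IsPrime), FlatCA.IsEtaleNhd A A' p p' ∧
      ∀ (BA NA : Type u) [CommRing BA] [Algebra B BA] [Algebra A' BA] [Algebra A BA] [IsScalarTower A B BA]
        [IsScalarTower A A' BA] [Algebra.IsPushout A B A' BA]
        [AddCommGroup NA] [Module BA NA] [Module B NA] [IsScalarTower B BA NA]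
        (fA : N →ₗ[B] NA), IsBaseChange BA fA →
        ∃ (k : ℕ) (C : Fin k → Type u) (_ : ∀ i, CommRing (C i)) (_ : ∀ i, Algebra BA (C i)) (_ : ∀ i, Algebra A' (C i))
          (_ : ∀ i, IsScalarTower A' BA (C i))
          (Nc : Fin k → Type u) (_ : ∀ i, AddCommGroup (Nc i)) (_ : ∀ i, Module (C i) (Nc i)) (_ : ∀ i, Module BA (Nc i))
          (_ : ∀ i, IsScalarTower BA (C i) (Nc i)) (g : ∀ i, NA →ₗ[BA] Nc i),
          (∀ i, Algebra.Etale BA (C i) ∧ IsBaseChange (C i) (g i) ∧ Nonempty (FlatCA.CompleteDevissage A' (C i) (Nc i) p')) ∧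
          ∃ f : A', f ∉ p' ∧ ∀ (T : Type u) [CommRing T] [Algebra A' T], IsUnit (algebraMap A' T f) → ∀ n : ℕ,
            (FlatP n A' BA NA T ↔ ∀ i, FlatP n A' (C i) (Nc i) T) := by
  obtain ⟨A', _, _, p', _, hnhd, H⟩ := S1256.result (A := A) (B := B) N p
  refine ⟨A', inferInstance, inferInstance, p', inferInstance, hnhd, ?_⟩
  intro BA NA _ _ _ _ _ _ _ _ _ _ _ fA hfA
  obtain ⟨k, C, _, _, _, _, Nc, _, _, _, _, g, hC, hcov⟩ := H BA NA fA hfA
  refine ⟨k, C, inferInstance, inferInstance, inferInstance, inferInstance, Nc, inferInstance, inferInstance,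
    inferInstance, inferInstance, g, hC, ?_⟩
  obtain ⟨f, hf, hfh⟩ := hsp A' p' BA NA fA hfA k C Nc g (fun i => ⟨(hC i).1, (hC i).2.1⟩) hcov
  refine ⟨f, hf, fun T _ _ hu n => ⟨fun hT i => ?_, hfh T hu n⟩⟩
  have := (hC i).1
  exact FlatSource.flatP_source (A := A') (g i) (hC i).2.1 hT

section Step

variable {A B N : Type u} [CommRing A] [CommRing B] [Algebra A B] [AddCommGroup N] [Module B N]

theorem local_step (hloc : LocalRep.{u}) (n : ℕ) [Algebra.FinitePresentation A B]
    [Module.FinitePresentation B N] (hflat : FlatP (n + 1) A B N A) (p : Ideal A) [p.IsPrime]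
    (hsp : SpreadProp A B N) :
    ∃ (A₁ : Type u) (_ : CommRing A₁) (_ : Algebra A A₁) (p₁ : Ideal A₁),
      Algebra.Etale A A₁ ∧ p₁.IsPrime ∧ p₁.LiesOver p ∧
      AlgRep (fun (R : Type u) [CommRing R] [Algebra A R] => FlatP n A B N R) A₁ := by
  obtain ⟨A', _, _, p', _, hnhd, H⟩ := exists_etale_cover N p hsp
  have e1 : Algebra.Etale A A' := EtaleNhd.etale hnhd
  have e2 : p'.LiesOver p := EtaleNhd.liesOver hnhd
  obtain ⟨BA, NA, _, _, _, _, _, _, _, _, _, _, _, _, _, fA, hfA⟩ :=
    PushModel.exists_models (R := A) (S := B) (A := A') N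
  obtain ⟨k, C, _, _, _, _, Nc, _, _, _, _, g, hC, f, hf, hiff⟩ := H BA NA fA hfA
  have : Algebra.IsPushout A A' B BA := .symm inferInstance
  have h4 : Algebra.FinitePresentation A' BA :=
    Algebra.FinitePresentation.equiv (Algebra.IsPushout.equiv A A' B BA)
  have h5 : Module.FinitePresentation BA NA := Module.FinitePresentation.of_equiv hfA.equiv
  have hflat' : FlatCA.FlatInDimGE (n + 1) A' BA NA := (hflat.map (A₂ := A')) BA NA fA hfA
  have hCe : ∀ i, Algebra.Etale BA (C i) := fun i => (hC i).1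
  have key : ∀ i, ∃ f ∉ p', ∀ (A₁ : Type u) [CommRing A₁] [Algebra A' A₁],
      IsUnit (algebraMap A' A₁ f) →
      AlgRep (fun (R : Type u) [CommRing R] [Algebra A' R] => FlatP n A' (C i) (Nc i) R) A₁ := by
    intro i
    obtain ⟨hi1, hi2, ⟨D⟩⟩ := hC i
    let _ : Module A' (Nc i) := Module.compHom (Nc i) (algebraMap A' (C i))
    have : IsScalarTower A' (C i) (Nc i) := .of_algebraMap_smul fun _ _ => rfl
    have : Algebra.FinitePresentation A' (C i) := Algebra.FinitePresentation.trans A' BA (C i)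
    have : Module.FinitePresentation (C i) (Nc i) := Module.FinitePresentation.of_equiv hi2.equiv
    exact hloc n A' (C i) (Nc i) p' D (FlatSource.flatInDimGE_source (g i) hi2 hflat')
  choose F hF hFrep using key
  let G : A' := f * ∏ i, F i
  have hG : G ∉ p' := by
    intro hc
    rcases (inferInstance : p'.IsPrime).mem_or_mem hc with h | h
    · exact hf h
    · rw [(inferInstance : p'.IsPrime).prod_mem_iff] at h
      obtain ⟨i, -, hi⟩ := h
      exact hF i hi
  let A₁ := Localization.Away G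
  have hGu : IsUnit (algebraMap A' A₁ G) := IsLocalization.Away.algebraMap_isUnit G
  have hfu : ∀ (R : Type u) [CommRing R] [Algebra A' R] [Algebra A₁ R] [IsScalarTower A' A₁ R],
      IsUnit (algebraMap A' R f) := fun R _ _ _ _ => by
    have h1 : IsUnit (algebraMap A' R G) := by
      rw [IsScalarTower.algebraMap_apply A' A₁ R]
      exact hGu.map (algebraMap A₁ R)
    exact isUnit_of_dvd_unit (map_dvd _ (Dvd.intro _ rfl)) h1
  have hFu : ∀ i, IsUnit (algebraMap A' A₁ (F i)) := fun i =>
    isUnit_of_dvd_unit (map_dvd _ ((Finset.dvd_prod_of_mem F (Finset.mem_univ i)).trans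
      (Dvd.intro_left _ rfl))) hGu
  have e3 : Algebra.Etale A' A₁ := Algebra.Etale.of_isLocalizationAway G
  obtain ⟨hp1, hp2⟩ := EtaleNhd.liesOver_map_away (R' := A₁) (p := p') G hG
  refine ⟨A₁, inferInstance, inferInstance, p'.map (algebraMap A' A₁), Algebra.Etale.comp A A' A₁,
    hp1, .trans _ p' p, ?_⟩
  have h6 : AlgRep (fun (R : Type u) [CommRing R] [Algebra A' R] => FlatP n A' BA NA R) A₁ :=
    (algRep_forall_fin k (fun i (R : Type u) [CommRing R] [Algebra A' R] =>
      FlatP n A' (C i) (Nc i) R) (fun i => hFrep i A₁ (hFu i))).congr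
      (fun R _ _ _ _ => hiff R (hfu R) n)
  refine h6.changeBase fun R _ _ _ _ _ _ _ => ?_
  exact (flatP_tower (A₁ := A') fA hfA).symm

theorem step (hloc : LocalRep.{u}) (n : ℕ) [Algebra.FinitePresentation A B]
    [Module.FinitePresentation B N] (hsp : SpreadProp A B N)
    (ih : RepOver (FlatMain.F (n + 1) A B N) (𝟙 _)) : RepOver (FlatMain.F n A B N) (𝟙 _) := by
  obtain ⟨Z, j, _, _, _, hj⟩ := ih
  have hj' : ∀ (T : Scheme.{u}) (h : T ⟶ Spec (CommRingCat.of A)),
      FlatMain.F (n + 1) A B N T h ↔ ∃ g, g ≫ j = h := fun T h => by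
    rw [← hj, Category.comp_id]
  refine repOver_of_local (etSheafPred_toSch (etAlgPred_flatP n)) j
    (fun T h hT => (hj' T h).1 fun R t φ ht => ?_) fun y => ?_
  · have := hT R t φ ht
    let _ := φ.hom.toAlgebra
    exact FlatMain.flatP_succ (R := R) this
  · obtain ⟨A₀, v, hv, x, hx⟩ := exists_affine_nhd Z y
    obtain ⟨φ, hφ⟩ := Spec.map_surjective (v ≫ j)
    let _ : Algebra A A₀ := φ.hom.toAlgebra
    have hA₀ : Spec.map (CommRingCat.ofHom (algebraMap A A₀)) = v ≫ j := hφ
    obtain ⟨B₀, N₀, _, _, _, _, _, _, _, _, _, _, _, _, _, f₀, hf₀⟩ :=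
      PushModel.exists_models (R := A) (S := B) (A := A₀) N
    have : Algebra.IsPushout A A₀ B B₀ := .symm inferInstance
    have h4 : Algebra.FinitePresentation A₀ B₀ :=
      Algebra.FinitePresentation.equiv (Algebra.IsPushout.equiv A A₀ B B₀)
    have h5 : Module.FinitePresentation B₀ N₀ := Module.FinitePresentation.of_equiv hf₀.equiv
    have hflat : FlatP (n + 1) A₀ B₀ N₀ A₀ := by
      rw [flatP_tower (A := A) (A₁ := A₀) f₀ hf₀]
      have h6 : FlatMain.F (n + 1) A B N (Spec A₀) (Spec.map (CommRingCat.ofHom (algebraMap A A₀))) :=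
        (hj' _ _).2 ⟨v, hA₀.symm⟩
      exact (toSch_algebraMap (etAlgPred_flatP (n + 1)) A₀).1 h6
    let p₀ : Ideal A₀ := x.asIdeal
    have hp₀ : p₀.IsPrime := x.2
    obtain ⟨A₁, _, _, p₁, _, hp₁, hover, hrep⟩ := local_step hloc n hflat p₀ (changeBase (A := A) f₀ hf₀ hsp)
    let _ : Algebra A A₁ := ((algebraMap A₀ A₁).comp (algebraMap A A₀)).toAlgebra
    have t1 : IsScalarTower A A₀ A₁ := .of_algebraMap_eq fun _ => rfl
    have hrep' : AlgRep (fun (R : Type u) [CommRing R] [Algebra A R] => FlatP n A B N R) A₁ :=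
      hrep.changeBase fun R _ _ _ _ _ _ _ => (flatP_tower (A := A) (A₁ := A₀) f₀ hf₀).symm
    have het : Etale (Spec.map (CommRingCat.ofHom (algebraMap A₀ A₁))) := by
      rw [HasRingHomProperty.Spec_iff (P := @Etale)]
      change (algebraMap A₀ A₁).Etale
      rw [RingHom.etale_algebraMap]
      infer_instance
    refine ⟨Spec (CommRingCat.of A₁), Spec.map (CommRingCat.ofHom (algebraMap A₀ A₁)) ≫ v,
      inferInstance, inferInstance, ⟨⟨p₁, hp₁⟩, ?_⟩, ?_⟩
    · rw [Scheme.Hom.comp_apply, ← hx]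
      congr 1
      exact PrimeSpectrum.ext hover.over.symm
    · rw [algRep_iff (etAlgPred_flatP n)] at hrep'
      have h7 : (Spec.map (CommRingCat.ofHom (algebraMap A₀ A₁)) ≫ v) ≫ j =
          Spec.map (CommRingCat.ofHom (algebraMap A A₁)) := by
        rw [Category.assoc, ← hA₀]
        rw [IsScalarTower.algebraMap_eq A A₀ A₁, CommRingCat.ofHom_comp]
        exact (Spec.map_comp _ _).symm
      rw [h7]
      exact hrep'

theorem main (n : ℕ) [Algebra.FinitePresentation A B]
    [Module.FinitePresentation B N] (hsp : SpreadProp A B N) :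
    RepOver (FlatMain.F n A B N) (𝟙 _) := by
  obtain ⟨m, hm⟩ := FlatLarge.exists_forall_flatP (A := A) (B := B) N
  have hlarge : ∀ n ≥ m, RepOver (FlatMain.F n A B N) (𝟙 _) := fun n hn =>
    repOver_true fun T g R t φ _ => by
      let _ := φ.hom.toAlgebra
      exact hm n hn R
  rcases le_total m n with h | h
  · exact hlarge n h
  · exact Nat.decreasingInduction (motive := fun k _ => RepOver (FlatMain.F k A B N) (𝟙 _))
      (fun k _ ih => step LocalRep386.localRep k hsp ih) (hlarge m le_rfl) h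

end Step

end K116.MainRep
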