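import Groth.Agent.Dual.H308.GenProd
import Groth.Agent.KSix.K240.RelBasic
import Groth.Agent.PerfC.PcLocal
import Groth.Agent.S7229

/-!
# Pseudo-coherence tested on twisted direct images (flat case)

`f : X ⟶ Spec A` separated, flat and of finite presentation, `L` in `D_QCoh(O_X)`.  If `Rf_*(L ⊗ E)` is
pseudo-coherent for all perfect `E`, then `L` is pseudo-coherent.
-/

set_option autoImplicit false

open CategoryTheory Limits MonoidalCategory AlgebraicGeometry

universe u

attribute [local instance] HasDerivedCategory.standard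

namespace K116.PcLocal

open Groth.Agent Groth.Agent.Dcoh
open scoped Groth.Agent.Dcoh.MonCat Groth.Agent.Dcoh.ModD

/-- **Pseudo-coherence on a flat scheme over an affine base can be tested on twisted direct images.** -/
theorem pcl {A : Type u} [CommRing A] {X : Scheme.{u}} (f : X ⟶ Spec (CommRingCat.of A)) [IsSeparated f]
    [QuasiCompact f] [Flat f] [LocallyOfFinitePresentation f] [DCoh.HasRpush f] (L : DCoh.D X)
    (hL : DCoh.IsQCohD L)
    (h : ∀ E : DCoh.D X, DCoh.IsPerfect E → ∀ m : ℤ, DCoh.IsPseudoCoherentD m ((DCoh.Rpush f).obj (L ⊗ E)))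
    (m : ℤ) : DCoh.IsPseudoCoherentD m L := by
  let K := DerivedCategory.Q.objPreimage L
  let e : DerivedCategory.Q.obj K ≅ L := DerivedCategory.Q.objObjPreimageIso L
  have : DCoh.HasLTensorCx K := ModTens.hasLTensorCx K
  have h1 := S7229.result A f K (PerfA.QCohD.isQCohD_of_iso e.symm hL) (fun E hE n => by
    obtain ⟨s⟩ := MonSymm293.weakSymm E
    exact PerfC.PcLocal.pc_of_iso ((DCoh.Rpush f).mapIso
      ((s.app L).symm ≪≫ (whiskerLeftIso E e).symm ≪≫ ((ModTens.LTensorCxIso K).app E).symm)) (h E hE n)) m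
  exact PerfC.PcLocal.pc_of_iso e ((K240.RelBasic.isPseudoCoherentRel_flat_iff f m _).1 h1)

end K116.PcLocal
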