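import Groth.Agent.FlatMor.K116.FlatQ
import Groth.Agent.FlatMor.K116.LiftP
import Groth.Agent.FlatMor.K116.MainRep
import Groth.Agent.PerfC.FPSections
import Mathlib.AlgebraicGeometry.Morphisms.Descent

/-!
# Representability of the flattening functor of a proper morphism over an affine base
-/

set_option autoImplicit false
universe u

open CategoryTheory CategoryTheory.Limits AlgebraicGeometry TensorProduct
open Groth.Agent Groth.Agent.Flat2B Groth.Agent.Flat2B.RepPred Groth.Agent.Flat2B.AlgPred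
open Groth.Agent.Flat2B.FlatFun

namespace K116.PropRep

open K116.FlatQ K116.BC K116.Spread K116.LiftP

/-- Transport of sections of pullbacks between affine schemes is a base change. -/
theorem exists_isBC {W U X : Scheme.{u}} [IsAffine W] [IsAffine U] (q : W ⟶ U) (π : U ⟶ X) (w : W ⟶ X)
    (h : q ≫ π = w) (F : X.Modules) (hF : Coh.IsQCoh F) :
    ∃ m : Γ((Scheme.Modules.pullback π).obj F, ⊤) →ₛₗ[q.appTop.hom] Γ((Scheme.Modules.pullback w).obj F, ⊤),
      IsBC q.appTop.hom m := by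
  have hN : Coh.IsQCoh ((Scheme.Modules.pullback π).obj F) := FormalA.PullbackQC.isQCoh_pullback _ _ hF
  have hN' : Coh.IsQCoh ((Scheme.Modules.pullback q).obj ((Scheme.Modules.pullback π).obj F)) :=
    FormalA.PullbackQC.isQCoh_pullback _ _ hN
  have e : (⊤ : W.Opens) ≤ q ⁻¹ᵁ ⊤ := le_top
  have hb := Fdesc.PullbackSec.isBaseChange_pullSec q e (isAffineOpen_top U) (isAffineOpen_top W)
    ((Scheme.Modules.pullback π).obj F) hN hN'
  have h1 : q.appLE ⊤ ⊤ e = q.appTop := Scheme.Hom.appLE_eq_app _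
  rw [← h1]
  let i : (Scheme.Modules.pullback q).obj ((Scheme.Modules.pullback π).obj F) ≅ (Scheme.Modules.pullback w).obj F :=
    pullIso q π w h F
  let N := (Scheme.Modules.pullback π).obj F
  let φ : Γ((Scheme.Modules.pullback q).obj N, ⊤) ≃ₗ[Γ(W, ⊤)] Γ((Scheme.Modules.pullback w).obj F, ⊤) :=
    { toFun := fun x => i.hom.app ⊤ x
      invFun := fun x => i.inv.app ⊤ x
      map_add' := fun x y => map_add (i.hom.app ⊤).hom x y
      map_smul' := fun r x => Scheme.Modules.Hom.app_smul i.hom r x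
      left_inv := fun x => by
        change (i.hom.app ⊤ ≫ i.inv.app ⊤) x = x
        rw [← Scheme.Modules.Hom.comp_app, i.hom_inv_id]
        rfl
      right_inv := fun x => by
        change (i.inv.app ⊤ ≫ i.hom.app ⊤) x = x
        rw [← Scheme.Modules.Hom.comp_app, i.inv_hom_id]
        rfl }
  let _ := Fdesc.PullbackSec.secAlg q e
  let _ := Fdesc.PullbackSec.secModule q e ((Scheme.Modules.pullback q).obj N)
  let _ := Fdesc.PullbackSec.secModule q e ((Scheme.Modules.pullback w).obj F)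
  have _ := Fdesc.PullbackSec.isScalarTower_sec q e ((Scheme.Modules.pullback q).obj N)
  have _ := Fdesc.PullbackSec.isScalarTower_sec q e ((Scheme.Modules.pullback w).obj F)
  let s := Fdesc.PullbackSec.pullSec q e N
  refine ⟨{ toFun := fun x => φ (s x), map_add' := fun x y => by rw [map_add, map_add],
            map_smul' := fun r x => ?_ }, ?_⟩
  · rw [s.map_smul]
    exact φ.map_smul (q.appLE ⊤ ⊤ e r) (s x)
  · have hb' : IsBaseChange Γ(W, ⊤) s := hb
    exact IsBaseChange.of_equiv (hb'.equiv.trans φ) fun x => by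
      rw [LinearEquiv.trans_apply, IsBaseChange.equiv_tmul, one_smul]
      rfl

/-- Two predicates which agree on affine schemes agree. -/
theorem iff_of_affine {S : Scheme.{u}} {Q₁ Q₂ : ∀ T : Scheme.{u}, (T ⟶ S) → Prop} (h₁ : EtSheafPred Q₁)
    (h₂ : EtSheafPred Q₂) (h : ∀ (T : Scheme.{u}) [IsAffine T] (t : T ⟶ S), Q₁ T t ↔ Q₂ T t) (T : Scheme.{u})
    (t : T ⟶ S) : Q₁ T t ↔ Q₂ T t := by
  have key : ∀ {Q₁ Q₂ : ∀ T : Scheme.{u}, (T ⟶ S) → Prop}, EtSheafPred Q₁ → EtSheafPred Q₂ →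
      (∀ (T : Scheme.{u}) [IsAffine T] (t : T ⟶ S), Q₁ T t → Q₂ T t) → Q₁ T t → Q₂ T t := by
    intro Q₁ Q₂ h₁ h₂ h hT
    refine h₂.desc T t T.affineCover.I₀ (fun i => T.affineCover.X i) (fun i => T.affineCover.f i)
      (fun i => inferInstance) (fun x => ?_) (fun i => h _ _ (h₁.map _ _ _ _ hT))
    obtain ⟨i, y, hy⟩ := T.affineCover.exists_eq x
    exact ⟨i, y, hy⟩
  exact ⟨key h₁ h₂ fun T _ t => (h T t).1, key h₂ h₁ fun T _ t => (h T t).2⟩

theorem toSch_affine {S : Scheme.{u}} [IsAffine S] {P : ∀ (R : Type u) [CommRing R] [Algebra Γ(S, ⊤) R], Prop}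
    (hP : EtAlgPred P) (T : Scheme.{u}) [IsAffine T] (t : T ⟶ S) :
    toSch P T (t ≫ S.isoSpec.hom) ↔ at' P Γ(T, ⊤) t.appTop.hom := by
  have e : T.isoSpec.inv ≫ t ≫ S.isoSpec.hom = Spec.map t.appTop := by
    rw [← Category.assoc, ← Scheme.isoSpec_inv_naturality, Category.assoc, Iso.inv_hom_id, Category.comp_id]
  constructor
  · intro h
    exact h Γ(T, ⊤) T.isoSpec.inv t.appTop e
  · intro h R' s φ hs
    obtain ⟨ψ, hψ⟩ := Spec.map_surjective (s ≫ T.isoSpec.hom)
    have h1 : φ = t.appTop ≫ ψ := by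
      apply Spec.map_injective
      rw [Spec.map_comp, hψ, ← e, Category.assoc, Iso.hom_inv_id_assoc]
      exact hs.symm
    subst h1
    exact hP.map' t.appTop.hom ψ.hom h

theorem etSheafPred_comp {S S' : Scheme.{u}} {Q : ∀ T : Scheme.{u}, (T ⟶ S) → Prop} (hQ : EtSheafPred Q)
    (a : S' ⟶ S) : EtSheafPred (fun T (t : T ⟶ S') => Q T (t ≫ a)) where
  map T T' g h hT := by
    rw [Category.assoc]
    exact hQ.map _ _ _ _ hT
  desc T h ι U g hg hcov hU := by
    refine hQ.desc T _ ι U g hg hcov fun i => ?_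
    have := hU i
    rwa [Category.assoc] at this

theorem repOver_of_iso {S S' : Scheme.{u}} {Q : ∀ T : Scheme.{u}, (T ⟶ S) → Prop}
    {Q' : ∀ T : Scheme.{u}, (T ⟶ S') → Prop} (a : S ≅ S')
    (h : ∀ (T : Scheme.{u}) (t : T ⟶ S), Q T t ↔ Q' T (t ≫ a.hom)) (hr : RepOver Q' (𝟙 S')) : RepOver Q (𝟙 S) := by
  obtain ⟨Z, i, h1, h2, h3, h4⟩ := hr
  refine ⟨Z, i ≫ a.inv, mono_comp _ _, inferInstance, inferInstance, fun T t => ?_⟩
  rw [Category.comp_id, h, ← Category.comp_id (t ≫ a.hom), h4]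
  constructor
  · rintro ⟨g, hg⟩
    exact ⟨g, by rw [← Category.assoc, hg, Category.assoc, Iso.hom_inv_id, Category.comp_id]⟩
  · rintro ⟨g, hg⟩
    exact ⟨g, by rw [← hg, Category.assoc, Category.assoc, Iso.inv_hom_id, Category.comp_id]⟩

theorem isPullback_isoSpec {P X Y Z : Scheme.{u}} [IsAffine P] [IsAffine X] [IsAffine Y] {fst : P ⟶ X} {snd : P ⟶ Y}
    {f : X ⟶ Z} {g : Y ⟶ Z} (H : IsPullback fst snd f g) :
    IsPullback (Spec.map fst.appTop) (Spec.map snd.appTop) (X.isoSpec.inv ≫ f) (Y.isoSpec.inv ≫ g) := by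
  refine IsPullback.of_iso H P.isoSpec X.isoSpec Y.isoSpec (Iso.refl _) ?_ ?_ ?_ ?_
  · exact (Scheme.isoSpec_hom_naturality _).symm
  · exact (Scheme.isoSpec_hom_naturality _).symm
  · simp
  · simp

/-- Representability over an affine base. -/
theorem repOver_affine {X S : Scheme.{u}} [IsAffine S] (f : X ⟶ S) [IsProper f] [LocallyOfFinitePresentation f]
    (F : X.Modules) (hF : CohB1.IsFP F) : RepOver (Q f F) (𝟙 S) := by
  have hq : Coh.IsQCoh F := PerfC.FPSections.isQCoh_of_isFP hF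
  have hcX : CompactSpace X := QuasiCompact.compactSpace_of_compactSpace f
  obtain ⟨U, π, hπs, hπe, hU⟩ := Scheme.exists_hom_isAffine_of_isZariskiLocalAtSource (P := @Etale) X
  have hπf : IsAffineHom (π ≫ f) := inferInstance
  have hπa : IsAffineHom π := IsAffineHom.of_comp π f
  have hW : IsAffine (pullback π π) := isAffine_of_isAffineHom (pullback.fst π π)
  let W := pullback π π
  let w : W ⟶ X := pullback.fst π π ≫ π
  obtain ⟨m1, hm1⟩ := exists_isBC (pullback.fst π π) π w rfl F hq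
  obtain ⟨m2, hm2⟩ := exists_isBC (pullback.snd π π) π w pullback.condition.symm F hq
  let i1 : Algebra Γ(S, ⊤) Γ(U, ⊤) := (π ≫ f).appTop.hom.toAlgebra
  let i2 : Algebra Γ(S, ⊤) Γ(W, ⊤) := (w ≫ f).appTop.hom.toAlgebra
  let p1 : Γ(U, ⊤) →ₐ[Γ(S, ⊤)] Γ(W, ⊤) :=
    { (pullback.fst π π).appTop.hom with
      commutes' := fun r => by
        change (pullback.fst π π).appTop ((π ≫ f).appTop r) = (w ≫ f).appTop r
        rw [← CommRingCat.comp_apply, ← Scheme.Hom.comp_appTop, ← Category.assoc] }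
  let p2 : Γ(U, ⊤) →ₐ[Γ(S, ⊤)] Γ(W, ⊤) :=
    { (pullback.snd π π).appTop.hom with
      commutes' := fun r => by
        change (pullback.snd π π).appTop ((π ≫ f).appTop r) = (w ≫ f).appTop r
        rw [← CommRingCat.comp_apply, ← Scheme.Hom.comp_appTop, ← Category.assoc, ← pullback.condition] }
  have he1 : p1.toRingHom.Etale := HasRingHomProperty.appTop (P := @Etale) (pullback.fst π π) inferInstance
  have he2 : p2.toRingHom.Etale := HasRingHomProperty.appTop (P := @Etale) (pullback.snd π π) inferInstance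
  have hfp : Algebra.FinitePresentation Γ(S, ⊤) Γ(U, ⊤) :=
    HasRingHomProperty.appTop (P := @LocallyOfFinitePresentation) (π ≫ f) inferInstance
  have hfpN : Module.FinitePresentation Γ(U, ⊤) Γ((Scheme.Modules.pullback π).obj F, ⊤) :=
    Desc.FPSections.finitePresentation_sections (isAffineOpen_top U) (FormalA.PullbackQC.isQCoh_pullback _ _ hq)
      (FormalA.PullbackQC.isFP_pullback _ _ hF)
  have hlift : LiftProp p1 p2 := by
    refine liftProp_of p1 p2 (f ≫ S.isoSpec.hom) (U.isoSpec.inv ≫ π) ?_ ?_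
    · change _ = Spec.map (π ≫ f).appTop
      rw [Category.assoc, ← Category.assoc π f, ← Category.assoc, ← Scheme.isoSpec_inv_naturality, Category.assoc,
        Iso.inv_hom_id, Category.comp_id]
    · exact isPullback_isoSpec (IsPullback.of_hasPullback π π)
  have hsp : SpreadProp Γ(S, ⊤) Γ(U, ⊤) Γ((Scheme.Modules.pullback π).obj F, ⊤) :=
    spreadProp_of p1 p2 he1 he2 m1 hm1 m2 hm2 hlift
  have hmain := MainRep.main 0 hsp
  refine repOver_of_iso S.isoSpec (fun T t => ?_) hmain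
  refine iff_of_affine etSheafPred_Q (etSheafPred_comp (etSheafPred_toSch (FlatRep.etAlgPred_flatP 0)) _) ?_ T t
  intro T _ t
  refine (q_iff_flatP hq π T t).trans ?_
  exact (toSch_affine (FlatRep.etAlgPred_flatP 0) T t).symm

end K116.PropRep
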