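import Groth.Agent.Flat2B.FlatMain
import Groth.Agent.FlatMor.K116.BC

/-!
# Étale neighbourhoods covering the relatively associated points of a proper scheme

`SpreadProp A B N`: the spreading-out property of étale covers of the fibre of `Spec B` which holds for pure modules
and (here) for an étale affine chart of a proper scheme.
-/

set_option autoImplicit false
universe u

open CategoryTheory CategoryTheory.Limits AlgebraicGeometry TensorProduct
open Groth.Agent Groth.Agent.Flat2B Groth.Agent.Flat2B.FlatFun Groth.Agent.Flat2B.UnivFlatCover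

namespace K116.Spread

open K116.BC

/-- The spreading-out property. -/
def SpreadProp (A B N : Type u) [CommRing A] [CommRing B] [Algebra A B] [AddCommGroup N] [Module B N] : Prop :=
  ∀ (A' : Type u) [CommRing A'] [Algebra A A'] (p' : Ideal A') [p'.IsPrime]
    (BA NA : Type u) [CommRing BA] [Algebra B BA] [Algebra A' BA] [Algebra A BA] [IsScalarTower A B BA]
    [IsScalarTower A A' BA] [Algebra.IsPushout A B A' BA] [AddCommGroup NA] [Module BA NA] [Module B NA]
    [IsScalarTower B BA NA] (fA : N →ₗ[B] NA), IsBaseChange BA fA →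
    ∀ (k : ℕ) (C : Fin k → Type u) [∀ i, CommRing (C i)] [∀ i, Algebra BA (C i)] [∀ i, Algebra A' (C i)]
      [∀ i, IsScalarTower A' BA (C i)] (Nc : Fin k → Type u) [∀ i, AddCommGroup (Nc i)]
      [∀ i, Module (C i) (Nc i)] [∀ i, Module BA (Nc i)] [∀ i, IsScalarTower BA (C i) (Nc i)]
      (g : ∀ i, NA →ₗ[BA] Nc i),
      (∀ i, Algebra.Etale BA (C i) ∧ IsBaseChange (C i) (g i)) →
      (∀ (Q : Ideal BA) [Q.IsPrime], Q.LiesOver p' →
        ∃ (i : Fin k) (Q' : Ideal (C i)), Q'.IsPrime ∧ Q'.comap (algebraMap BA (C i)) = Q) →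
      ∃ f : A', f ∉ p' ∧ ∀ (T : Type u) [CommRing T] [Algebra A' T], IsUnit (algebraMap A' T f) → ∀ n : ℕ,
        (∀ i, FlatP n A' (C i) (Nc i) T) → FlatP n A' BA NA T

section Translate

variable {A BA NA D ND C Nc : Type u} [CommRing A] [CommRing BA] [Algebra A BA] [AddCommGroup NA] [Module BA NA]
  [CommRing D] [Algebra A D] [AddCommGroup ND] [Module D ND]
  [CommRing C] [Algebra BA C] [Algebra A C] [IsScalarTower A BA C] [AddCommGroup Nc] [Module C Nc] [Module BA Nc]
  [IsScalarTower BA C Nc]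

/-- Translation of an étale `BA`-algebra by an étale correspondence. -/
theorem exists_translate (q1 q2 : BA →ₐ[A] D) (he2 : q2.toRingHom.Etale)
    (m1 : NA →ₛₗ[q1.toRingHom] ND) (hm1 : IsBC q1.toRingHom m1) (m2 : NA →ₛₗ[q2.toRingHom] ND)
    (hm2 : IsBC q2.toRingHom m2) (he1 : q1.toRingHom.Etale) (g : NA →ₗ[BA] Nc) (hC : Algebra.Etale BA C)
    (hg : IsBaseChange C g) :
    ∃ (E NE : Type u) (_ : CommRing E) (_ : Algebra BA E) (_ : Algebra A E) (_ : IsScalarTower A BA E)
      (_ : AddCommGroup NE) (_ : Module E NE) (_ : Module BA NE) (_ : IsScalarTower BA E NE) (h : NA →ₗ[BA] NE),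
      Algebra.Etale BA E ∧ IsBaseChange E h ∧
      (∀ (T : Type u) [CommRing T] [Algebra A T] (n : ℕ), FlatP n A C Nc T → FlatP n A E NE T) ∧
      (∀ (R : Ideal C) (P : Ideal D) [R.IsPrime] [P.IsPrime], R.comap (algebraMap BA C) = P.comap q1.toRingHom →
        ∃ Q : Ideal E, Q.IsPrime ∧ Q.comap (algebraMap BA E) = P.comap q2.toRingHom) := by
  obtain ⟨E, _, a, b, h1, h2, h3, h4, NE, _, _, n', l', hn', hl', h5⟩ :=
    exists_tens_mod (algebraMap BA C) q1.toRingHom (ofLin g) ((isBC_ofLin g).mpr hg) m1 hm1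
  have hbe : b.Etale := h3 (RingHom.etale_algebraMap.mpr hC)
  have hae : a.Etale := h2 he1
  let i1 : Algebra BA E := (b.comp q2.toRingHom).toAlgebra
  let i2 : Algebra A E := (b.comp (algebraMap A D)).toAlgebra
  have i3 : IsScalarTower A BA E := .of_algebraMap_eq fun x => by
    change b (algebraMap A D x) = b (q2 (algebraMap A BA x))
    rw [q2.commutes]
  let i4 : Module BA NE := Module.compHom NE (b.comp q2.toRingHom)
  have i5 : IsScalarTower BA E NE := .of_algebraMap_smul fun _ _ => rfl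
  have hbc : IsBC (b.comp q2.toRingHom) (compS l' m2) := hm2.comp hl'
  refine ⟨E, NE, inferInstance, i1, i2, i3, inferInstance, inferInstance, i4, i5,
    toLin (b.comp q2.toRingHom) (compS l' m2), ?_, hbc, ?_, ?_⟩
  · have : (b.comp q2.toRingHom).Etale := RingHom.Etale.stableUnderComposition _ _ he2 hbe
    exact this
  · intro T _ _ n hT
    let j1 : Algebra C E := a.toAlgebra
    have j2 : IsScalarTower A C E := .of_algebraMap_eq fun x => by
      change b (algebraMap A D x) = a (algebraMap A C x)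
      rw [IsScalarTower.algebraMap_apply A BA C, ← q1.commutes]
      exact (congrArg (fun f : BA →+* E => f (algebraMap A BA x)) h1).symm
    let j3 : Module C NE := Module.compHom NE a
    have j4 : IsScalarTower C E NE := .of_algebraMap_smul fun _ _ => rfl
    have j5 : Algebra.Etale C E := hae
    exact FlatSource.flatP_source (A := A) (B := C) (C := E) (toLin a n') hn' hT
  · intro R P _ _ hRP
    obtain ⟨Q, hQ, h6, h7⟩ := h4 R P hRP
    refine ⟨Q, hQ, ?_⟩
    change Q.comap (b.comp q2.toRingHom) = _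
    rw [← h7, Ideal.comap_comap]

end Translate

section Spread

variable {A B : Type u} [CommRing A] [CommRing B] [Algebra A B] [Algebra.FinitePresentation A B]
  (N : Type u) [AddCommGroup N] [Module B N] [Module A N] [IsScalarTower A B N] [Module.FinitePresentation B N]
  {k : ℕ} (C : Fin k → Type u) [∀ i, CommRing (C i)] [∀ i, Algebra B (C i)] [∀ i, Algebra.Etale B (C i)]

/-- An étale family hitting all primes over generizations of `p` hits all relatively associated primes over a
neighbourhood of `p`. -/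
theorem exists_hitsOver (p : Ideal A) [p.IsPrime]
    (hcov : ∀ (t : Ideal A) [t.IsPrime], t ≤ p → ∀ (Q : Ideal B) [Q.IsPrime], Q.LiesOver t →
      ∃ (i : Fin k) (Q' : Ideal (C i)), Q'.IsPrime ∧ Q'.comap (algebraMap B (C i)) = Q) :
    ∃ f : A, f ∉ p ∧ ∀ (t : Ideal A) [t.IsPrime], f ∉ t → HitsOver A B N C t := by
  let W : Set (PrimeSpectrum B) := ⋃ i, Set.range (PrimeSpectrum.comap (algebraMap B (C i)))
  have hWo : IsOpen W := isOpen_iUnion fun i =>
    (PrimeSpectrum.isOpenMap_comap_of_hasGoingDown_of_finitePresentation (R := B) (S := C i)).isOpen_range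
  have hWc : IsCompact W := isCompact_iUnion fun i => isCompact_range (PrimeSpectrum.continuous_comap _)
  obtain ⟨s, hs⟩ := PrimeSpectrum.isCompact_isOpen_iff.mp ⟨hWc, hWo⟩
  let g : Fin s.card → B := fun i => (s.equivFin.symm i : B)
  have hW : ∀ x : PrimeSpectrum B, x ∈ W ↔ ∃ i, g i ∉ x.asIdeal := by
    intro x
    rw [← hs, Set.mem_compl_iff, PrimeSpectrum.mem_zeroLocus, Set.not_subset]
    constructor
    · rintro ⟨b, hb, hb'⟩
      exact ⟨s.equivFin ⟨b, hb⟩, by simpa [g] using hb'⟩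
    · rintro ⟨i, hi⟩
      exact ⟨g i, (s.equivFin.symm i).2, hi⟩
  obtain ⟨f, hf, hfE⟩ := Flat2A.RelAssCons.exists_basicOpen_subset _
    (Flat2A.RelAssCons.isConstructible_relAss_subset (A := A) (B := B) N g) p (by
      intro t ht q _ hq hass
      obtain ⟨i, Q', _, hQ'⟩ := hcov t.asIdeal ht q hq
      have h1 : (⟨q, inferInstance⟩ : PrimeSpectrum B) ∈ W :=
        Set.mem_iUnion.mpr ⟨i, ⟨Q', inferInstance⟩, PrimeSpectrum.ext hQ'⟩
      rw [hW] at h1
      exact h1)
  refine ⟨f, hf, ?_⟩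
  intro t _ hft Q _ hQ hass
  have h1 := hfE ⟨t, inferInstance⟩ hft Q hQ
    ((Flat2A.FiberAss.mem_associatedPrimes_fiberMod_iff t N Q).mp hass).2.2
  have h2 := (hW ⟨Q, inferInstance⟩).mpr h1
  obtain ⟨i, x, hx⟩ := Set.mem_iUnion.mp h2
  exact ⟨i, x.asIdeal, inferInstance, congrArg PrimeSpectrum.asIdeal hx⟩

end Spread

section BaseChangeRing

variable {A B D A' BA D' : Type u} [CommRing A] [CommRing B] [CommRing D] [CommRing A'] [CommRing BA] [CommRing D']
  [Algebra A B] [Algebra A D] [Algebra A A'] [Algebra A BA] [Algebra A D'] [Algebra B BA] [Algebra A' BA]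
  [IsScalarTower A B BA] [IsScalarTower A A' BA] [Algebra.IsPushout A B A' BA]
  [Algebra D D'] [Algebra A' D'] [IsScalarTower A D D'] [IsScalarTower A A' D'] [Algebra.IsPushout A D A' D']

/-- The base change of `p : B → D`. -/
theorem exists_bc (p : B →ₐ[A] D) (hp : p.toRingHom.Etale) :
    ∃ q : BA →ₐ[A'] D', (∀ b, q (algebraMap B BA b) = algebraMap D D' (p b)) ∧ q.toRingHom.Etale := by
  let q0 : BA →ₐ[A] D' := Algebra.pushoutDesc BA ((IsScalarTower.toAlgHom A D D').comp p)
    (IsScalarTower.toAlgHom A A' D') fun _ _ => mul_comm _ _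
  have hq0 : ∀ b, q0 (algebraMap B BA b) = algebraMap D D' (p b) := fun b =>
    Algebra.pushoutDesc_left BA ((IsScalarTower.toAlgHom A D D').comp p) (IsScalarTower.toAlgHom A A' D')
      (fun _ _ => mul_comm _ _) b
  have hq1 : ∀ a, q0 (algebraMap A' BA a) = algebraMap A' D' a := fun a =>
    Algebra.pushoutDesc_right BA ((IsScalarTower.toAlgHom A D D').comp p) (IsScalarTower.toAlgHom A A' D')
      (fun _ _ => mul_comm _ _) a
  refine ⟨{ q0.toRingHom with commutes' := hq1 }, hq0, ?_⟩
  let a1 : Algebra B D := p.toRingHom.toAlgebra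
  have a2 : IsScalarTower A B D := .of_algebraMap_eq fun x => (p.commutes x).symm
  let a3 : Algebra BA D' := q0.toRingHom.toAlgebra
  let a4 : Algebra B D' := ((algebraMap D D').comp p.toRingHom).toAlgebra
  have a5 : IsScalarTower B D D' := .of_algebraMap_eq fun _ => rfl
  have a6 : IsScalarTower B BA D' := .of_algebraMap_eq fun b => (hq0 b).symm
  have a7 : IsScalarTower A' BA D' := .of_algebraMap_eq fun a => (hq1 a).symm
  have a8 : IsScalarTower A B D' := .of_algebraMap_eq fun x => by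
    rw [IsScalarTower.algebraMap_apply A D D', IsScalarTower.algebraMap_apply A B D]
    rfl
  have h4 : Algebra.IsPushout B D BA D' :=
    (Algebra.IsPushout.comp_iff (R := A) (S := B) (R' := A') (S' := BA) (T := D) (T' := D')).1 inferInstance
  have h5 : Algebra.Etale B D := hp
  have h6 : Algebra.Etale BA D' := etale_of_isPushout (R := B) (S := D) (R' := BA) (S' := D')
  exact h6

end BaseChangeRing

/-- The topological property of an étale correspondence `B ⇉ D`, satisfied by `D = B ×_X B` for an étale chart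
`Spec B → X` of a scheme `X` universally closed over `Spec A`. -/
def LiftProp {A B D : Type u} [CommRing A] [CommRing B] [CommRing D] [Algebra A B] [Algebra A D]
    (p1 p2 : B →ₐ[A] D) : Prop :=
  ∀ (A' BA D' : Type u) [CommRing A'] [CommRing BA] [CommRing D'] [Algebra A A'] [Algebra A BA] [Algebra A D']
    [Algebra B BA] [Algebra A' BA] [IsScalarTower A B BA] [IsScalarTower A A' BA] [Algebra.IsPushout A B A' BA]
    [Algebra D D'] [Algebra A' D'] [IsScalarTower A D D'] [IsScalarTower A A' D'] [Algebra.IsPushout A D A' D']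
    (q1 q2 : BA →ₐ[A'] D'), (∀ b, q1 (algebraMap B BA b) = algebraMap D D' (p1 b)) →
    (∀ b, q2 (algebraMap B BA b) = algebraMap D D' (p2 b)) →
    ∀ (t p' : Ideal A') [t.IsPrime] [p'.IsPrime], t ≤ p' → ∀ (Q : Ideal BA) [Q.IsPrime], Q.LiesOver t →
      ∃ (P : Ideal D') (Q' : Ideal BA), P.IsPrime ∧ Q'.IsPrime ∧ Q'.LiesOver p' ∧ P.comap q2.toRingHom = Q ∧
        P.comap q1.toRingHom ≤ Q'

theorem spreadProp_of {A B D N ND : Type u} [CommRing A] [CommRing B] [CommRing D] [Algebra A B] [Algebra A D]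
    [Algebra.FinitePresentation A B] [AddCommGroup N] [Module B N] [Module.FinitePresentation B N]
    [AddCommGroup ND] [Module D ND] (p1 p2 : B →ₐ[A] D) (h1 : p1.toRingHom.Etale) (h2 : p2.toRingHom.Etale)
    (m1 : N →ₛₗ[p1.toRingHom] ND) (hm1 : IsBC p1.toRingHom m1)
    (m2 : N →ₛₗ[p2.toRingHom] ND) (hm2 : IsBC p2.toRingHom m2) (hlift : LiftProp p1 p2) : SpreadProp A B N := by
  intro A' _ _ p' _ BA NA _ _ _ _ _ _ _ _ _ _ _ fA hfA k C _ _ _ _ Nc _ _ _ _ g hC hcov
  obtain ⟨D', ND', _, _, _, _, _, _, _, _, _, _, _, _, _, fD, hfD⟩ :=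
    PushModel.exists_models (R := A) (S := D) (A := A') ND
  obtain ⟨q1, hq1, he1⟩ := exists_bc (A' := A') (BA := BA) (D' := D') p1 h1
  obtain ⟨q2, hq2, he2⟩ := exists_bc (A' := A') (BA := BA) (D' := D') p2 h2
  have hbc : ∀ (p : B →ₐ[A] D) (q : BA →ₐ[A'] D') (m : N →ₛₗ[p.toRingHom] ND), IsBC p.toRingHom m →
      (∀ b, q (algebraMap B BA b) = algebraMap D D' (p b)) →
      ∃ n : NA →ₛₗ[q.toRingHom] ND', IsBC q.toRingHom n := by
    intro p q m hm hq
    have e : (algebraMap D D').comp p.toRingHom = q.toRingHom.comp (algebraMap B BA) :=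
      RingHom.ext fun b => (hq b).symm
    have h3 : IsBC _ (compS (ofLin fD) m) := hm.comp ((isBC_ofLin fD).mpr hfD)
    have h4 : IsBC (algebraMap B BA) (ofLin fA) := (isBC_ofLin fA).mpr hfA
    obtain ⟨n, hn⟩ := h4.exists_lift (castS e (compS (ofLin fD) m))
    exact ⟨n, h4.of_comp ((isBC_castS e h3).congr rfl fun x => hn x)⟩
  obtain ⟨n1, hn1⟩ := hbc p1 q1 m1 hm1 hq1
  obtain ⟨n2, hn2⟩ := hbc p2 q2 m2 hm2 hq2
  have key := fun i => exists_translate (A := A') q1 q2 he2 n1 hn1 n2 hn2 he1 (g i) (hC i).1 (hC i).2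
  choose E NE e1 e2 e3 e4 e5 e6 e7 e8 h hE hbE hflat hprime using key
  have f4 : Algebra.FinitePresentation A' BA := by
    have : Algebra.IsPushout A A' B BA := .symm inferInstance
    exact Algebra.FinitePresentation.equiv (Algebra.IsPushout.equiv A A' B BA)
  have f5 : Module.FinitePresentation BA NA := Module.FinitePresentation.of_equiv hfA.equiv
  let _ : Module A' NA := Module.compHom NA (algebraMap A' BA)
  have _ : IsScalarTower A' BA NA := .of_algebraMap_smul fun _ _ => rfl
  obtain ⟨f, hf, hfh⟩ := exists_hitsOver (A := A') (B := BA) NA E p' (by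
    intro t _ ht Q _ hQ
    obtain ⟨P, Q', hP, hQ', hover, hPQ, hle⟩ := hlift A' BA D' q1 q2 hq1 hq2 t p' ht Q hQ
    obtain ⟨i, R', hR', hR'Q⟩ := hcov Q' hover
    have : R'.LiesOver Q' := ⟨hR'Q.symm⟩
    have := (hC i).1
    obtain ⟨R, -, hR, hRP⟩ := Ideal.exists_ideal_le_liesOver_of_le (p := P.comap q1.toRingHom) (q := Q') R' hle
    obtain ⟨Q'', hQ'', h6⟩ := hprime i R P hRP.over.symm
    exact ⟨i, Q'', hQ'', h6.trans hPQ⟩)
  refine ⟨f, hf, fun T _ _ hu n hn => ?_⟩
  refine (flatP_iff_cover NA E NE h n hbE T ?_).mpr fun i => hflat i T n (hn i)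
  intro t _
  refine hfh _ ?_
  intro hft
  exact Ideal.IsPrime.ne_top (I := t) inferInstance (Ideal.eq_top_of_isUnit_mem _ hft hu)

end K116.Spread
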